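import Mathlib
import Cfsg.Agent.Lib.Coprime.Action
import Cfsg.Agent.Lib.Involution.Basic

/-!
Cyclic Sylow `p`-subgroups in groups all of whose `p'`-subgroups are abelian: elementary facts.
-/

set_option autoImplicit false

namespace Cfsg.Agent.Lib.CyclicAb

open Subgroup

variable {G : Type*} [Group G]

theorem cyc_eq [Finite G] {Q H₁ H₂ : Subgroup G} [hc : IsCyclic Q] (h₁ : H₁ ≤ Q) (h₂ : H₂ ≤ Q)
    (h : Nat.card H₁ = Nat.card H₂) : H₁ = H₂ := by
  classical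
  haveI := Fintype.ofFinite Q
  have key : ∀ H : Subgroup G, H ≤ Q → Nat.card H = Nat.card H₁ →
      ((H : Set G)) = Subtype.val '' {x : Q | x ^ Nat.card H₁ = 1} := by
    intro H hH hn
    have hsub : (H : Set G) ⊆ Subtype.val '' {x : Q | x ^ Nat.card H₁ = 1} := fun x hx =>
      ⟨⟨x, hH hx⟩, Subtype.ext (by
        have := congrArg Subtype.val (pow_card_eq_one' (G := H) (x := ⟨x, hx⟩))
        rw [hn] at this
        simpa using this), rfl⟩
    refine Set.eq_of_subset_of_ncard_le hsub ?_ (Set.toFinite _)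
    rw [Set.ncard_image_of_injective _ Subtype.val_injective, ← Nat.card_coe_set_eq (H : Set G),
      SetLike.coe_sort_coe, hn, Set.ncard_eq_toFinset_card']
    refine le_trans (le_of_eq ?_) (IsCyclic.card_pow_eq_one_le (α := Q) (n := Nat.card H₁) Nat.card_pos)
    congr 1
    ext x
    simp
  exact SetLike.coe_injective ((key H₁ h₁ rfl).trans (key H₂ h₂ h.symm).symm)

theorem mem_of_pow_coprime (S : Subgroup G) {g : G} {a b : ℕ} (hab : Nat.Coprime a b) (ha : g ^ a ∈ S)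
    (hb : g ^ b ∈ S) : g ∈ S := by
  have h : g = (g ^ a) ^ (Nat.gcdA a b) * (g ^ b) ^ (Nat.gcdB a b) := by
    rw [← zpow_natCast, ← zpow_natCast g b, ← zpow_mul, ← zpow_mul, ← zpow_add, ← Nat.gcd_eq_gcd_ab,
      hab.gcd_eq_one, Nat.cast_one, zpow_one]
  rw [h]
  exact mul_mem (zpow_mem ha _) (zpow_mem hb _)

/-- An element lies in `C` if its `p`-part and its `p'`-part do. -/
theorem mem_of_parts [Finite G] {p : ℕ} (hp : p.Prime) (N C : Subgroup G)
    (h1 : ∀ g ∈ N, ¬ p ∣ orderOf g → g ∈ C) (h2 : ∀ g ∈ N, (∃ k, g ^ p ^ k = 1) → g ∈ C)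
    {g : G} (hg : g ∈ N) : g ∈ C := by
  obtain ⟨k, m, hm, he⟩ := Nat.exists_eq_pow_mul_and_not_dvd (orderOf_pos g).ne' p hp.ne_one
  refine mem_of_pow_coprime C (a := p ^ k) (b := m)
    (Nat.Coprime.pow_left k (hp.coprime_iff_not_dvd.2 hm)) ?_ ?_
  · refine h1 _ (pow_mem hg _) fun h => hm ?_
    rwa [orderOf_pow' _ (pow_pos hp.pos k).ne', he, Nat.gcd_mul_right_left,
      Nat.mul_div_cancel_left _ (pow_pos hp.pos k)] at h
  · refine h2 _ (pow_mem hg _) ⟨k, ?_⟩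
    rw [← pow_mul, mul_comm, ← he, pow_orderOf_eq_one]

/-- A `p'`-element normalizing a cyclic `p`-group and fixing a non-trivial element of it centralizes it. -/
theorem fix_all [Finite G] {p : ℕ} [hp : Fact p.Prime] (P : Subgroup G) (hP : IsPGroup p P) [hc : IsCyclic P]
    {a : G} (haN : ∀ z ∈ P, a * z * a⁻¹ ∈ P) (ha : ¬ p ∣ orderOf a) {x : G} (hx : x ∈ P) (hx1 : x ≠ 1)
    (hax : a * x * a⁻¹ = x) : ∀ z ∈ P, a * z * a⁻¹ = z := by
  have hcomm : ∀ u v : P, u * v = v * u := fun u v => mul_comm' u v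
  let f : P →* P := MonoidHom.mk' (fun y => ⟨a * (y : G) * a⁻¹ * (y : G)⁻¹, mul_mem (haN y y.2) (inv_mem y.2)⟩)
    fun y z => by
      refine Subtype.ext ?_
      show a * ((y : G) * z) * a⁻¹ * ((y : G) * z)⁻¹ = (a * y * a⁻¹ * (y : G)⁻¹) * (a * z * a⁻¹ * (z : G)⁻¹)
      have e : (y : G)⁻¹ * (a * z * a⁻¹ * (z : G)⁻¹) = (a * z * a⁻¹ * (z : G)⁻¹) * (y : G)⁻¹ :=
        congrArg Subtype.val (hcomm y⁻¹ ⟨_, mul_mem (haN z z.2) (inv_mem z.2)⟩)
      calc a * ((y : G) * z) * a⁻¹ * ((y : G) * z)⁻¹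
          = (a * y * a⁻¹) * ((a * z * a⁻¹ * (z : G)⁻¹) * (y : G)⁻¹) := by group
        _ = _ := by rw [← e]; group
  intro z hz
  by_cases hr : f.range = ⊥
  · have : f ⟨z, hz⟩ = 1 := by
      rw [← Subgroup.mem_bot, ← hr]; exact ⟨_, rfl⟩
    exact mul_inv_eq_one.1 (congrArg Subtype.val this)
  exfalso
  have hk : f.ker ≠ ⊥ := by
    intro e
    have h : (⟨x, hx⟩ : P) ∈ f.ker := Subtype.ext (show a * x * a⁻¹ * x⁻¹ = (1 : G) from mul_inv_eq_one.2 hax)
    rw [e, Subgroup.mem_bot] at h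
    exact hx1 (congrArg Subtype.val h)
  have hd : ∀ H : Subgroup P, H ≠ ⊥ → p ∣ Nat.card H := fun H hH => by
    rcases (hP.to_subgroup H).card_eq_or_dvd with h | h
    exacts [absurd (Subgroup.card_eq_one.1 h) hH, h]
  obtain ⟨⟨u, hu⟩, hu'⟩ := exists_prime_orderOf_dvd_card' p (hd _ hr)
  obtain ⟨⟨v, hv⟩, hv'⟩ := exists_prime_orderOf_dvd_card' p (hd _ hk)
  rw [Subgroup.orderOf_mk] at hu' hv'
  have hzz : Subgroup.zpowers (u : G) = Subgroup.zpowers (v : G) := cyc_eq (Q := P)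
    (Subgroup.zpowers_le.2 u.2) (Subgroup.zpowers_le.2 v.2)
    (by rw [Nat.card_zpowers, Nat.card_zpowers, Subgroup.orderOf_coe, Subgroup.orderOf_coe, hu', hv'])
  have hvfix : a * (v : G) * a⁻¹ = v := mul_inv_eq_one.1 (congrArg Subtype.val hv)
  have hufix : Commute a (u : G) := by
    obtain ⟨k, hk⟩ := Subgroup.mem_zpowers_iff.1 (hzz ▸ Subgroup.mem_zpowers (u : G))
    rw [← hk]
    exact Commute.zpow_right (mul_inv_eq_iff_eq_mul.1 hvfix) k
  obtain ⟨y, hy⟩ := hu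
  have hy' : a * (y : G) * a⁻¹ = u * y := mul_inv_eq_iff_eq_mul.1 (congrArg Subtype.val hy)
  have hpow : ∀ k : ℕ, a ^ k * (y : G) * (a ^ k)⁻¹ = (u : G) ^ k * y := by
    intro k
    induction k with
    | zero => simp
    | succ k ih =>
      calc a ^ (k + 1) * (y : G) * (a ^ (k + 1))⁻¹ = a * (a ^ k * y * (a ^ k)⁻¹) * a⁻¹ := by
            rw [pow_succ']; group
        _ = a * ((u : G) ^ k * y) * a⁻¹ := by rw [ih]
        _ = (a * (u : G) ^ k) * y * a⁻¹ := by group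
        _ = ((u : G) ^ k * a) * y * a⁻¹ := by rw [(hufix.pow_right k).eq]
        _ = (u : G) ^ k * (a * y * a⁻¹) := by group
        _ = (u : G) ^ (k + 1) * y := by rw [hy', pow_succ]; group
  have h1 := hpow (orderOf a)
  rw [pow_orderOf_eq_one, inv_one, one_mul, mul_one] at h1
  apply ha
  rw [← hu', ← Subgroup.orderOf_coe]
  exact orderOf_dvd_of_pow_eq_one (mul_eq_right.1 h1.symm)

variable [Finite G] {p : ℕ} [hp : Fact p.Prime]

theorem mem_sylow_of_normalizer (Q : Sylow p G) {g : G} (hg : g ∈ normalizer ((Q : Subgroup G) : Set G))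
    (h : ∃ k, g ^ p ^ k = 1) : g ∈ (Q : Subgroup G) := by
  obtain ⟨k, hk⟩ := h
  obtain ⟨j, -, hj⟩ := (Nat.dvd_prime_pow hp.out).1 (orderOf_dvd_of_pow_eq_one hk)
  have hz : IsPGroup p (Subgroup.zpowers g) := IsPGroup.of_card (n := j) (by rw [Nat.card_zpowers, hj])
  have := Q.3 (hz.to_sup_of_normal_right' Q.2 (Subgroup.zpowers_le.2 hg)) le_sup_right
  exact this ▸ Subgroup.mem_sup_left (Subgroup.mem_zpowers g)

theorem exists_pow_of_mem {Q : Subgroup G} (hQ : IsPGroup p Q) {g : G} (hg : g ∈ Q) : ∃ k, g ^ p ^ k = 1 := by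
  obtain ⟨k, hk⟩ := hQ ⟨g, hg⟩
  exact ⟨k, congrArg Subtype.val hk⟩

/-- An element of `N(Q)` fixing a non-trivial element of the cyclic Sylow subgroup `Q` centralizes it. -/
theorem cent_of_fix (Q : Sylow p G) [hc : IsCyclic (Q : Subgroup G)] {g : G}
    (hg : g ∈ normalizer ((Q : Subgroup G) : Set G)) {x : G} (hx : x ∈ (Q : Subgroup G)) (hx1 : x ≠ 1)
    (hgx : g * x = x * g) : g ∈ centralizer ((Q : Subgroup G) : Set G) := by
  refine mem_of_parts hp.out (normalizer ((Q : Subgroup G) : Set G) ⊓ centralizer {x}) _ ?_ ?_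
    (Subgroup.mem_inf.2 ⟨hg, Subgroup.mem_centralizer_singleton_iff.2 hgx⟩)
  · rintro a ⟨haN, haC⟩ ha
    rw [Subgroup.mem_centralizer_iff]
    intro z hz
    have h := fix_all (Q : Subgroup G) Q.2 (fun z hz => (Subgroup.mem_normalizer_iff.1 haN z).1 hz) ha hx hx1
      (mul_inv_eq_iff_eq_mul.2 (Subgroup.mem_centralizer_singleton_iff.1 haC)) z hz
    exact (mul_inv_eq_iff_eq_mul.1 h).symm
  · rintro a ⟨haN, -⟩ ha
    have haQ := mem_sylow_of_normalizer Q haN ha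
    rw [Subgroup.mem_centralizer_iff]
    intro z hz
    exact congrArg Subtype.val (mul_comm' (⟨z, hz⟩ : (Q : Subgroup G)) ⟨a, haQ⟩)

theorem exists_sylow_conj_mem (P : Sylow p G) {w : G} (hw : ∃ k, w ^ p ^ k = 1) :
    ∃ Q : Sylow p G, w ∈ (Q : Subgroup G) := by
  obtain ⟨k, hk⟩ := hw
  obtain ⟨j, -, hj⟩ := (Nat.dvd_prime_pow hp.out).1 (orderOf_dvd_of_pow_eq_one hk)
  have hz : IsPGroup p (Subgroup.zpowers w) := IsPGroup.of_card (n := j) (by rw [Nat.card_zpowers, hj])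
  obtain ⟨Q, hQ⟩ := hz.exists_le_sylow
  exact ⟨Q, hQ (Subgroup.mem_zpowers w)⟩

/-- A subgroup with elements only of order prime to `p` has order prime to `p`. -/
theorem not_dvd_card {H : Subgroup G} (h : ∀ w ∈ H, orderOf w ≠ p) : ¬ p ∣ Nat.card H := by
  intro hd
  obtain ⟨⟨w, hw⟩, hw'⟩ := exists_prime_orderOf_dvd_card' p hd
  rw [Subgroup.orderOf_mk] at hw'
  exact h w hw hw'

theorem not_dvd_sup {A B : Subgroup G} (h : A ≤ normalizer (B : Set G)) (hA : ¬ p ∣ Nat.card A)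
    (hB : ¬ p ∣ Nat.card B) : ¬ p ∣ Nat.card ↥(A ⊔ B) := by
  intro hd
  have h1 := Lib.Coprime.card_sup_mul_card_inf_of_le_normalizer h
  have h2 : p ∣ Nat.card A * Nat.card B := h1 ▸ dvd_mul_of_dvd_left hd _
  exact (hp.out.dvd_mul.1 h2).elim hA hB

omit hp in
theorem not_dvd_zpowers {a : G} (ha : ¬ p ∣ orderOf a) : ¬ p ∣ Nat.card (Subgroup.zpowers a) := by
  rwa [Nat.card_zpowers]

end Cfsg.Agent.Lib.CyclicAb
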