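import Cfsg.Agent.Lib.CyclicAb.Fusion
import Cfsg.Agent.Lib.CharAux

/-!
Counting involutions in a minimal counterexample.
-/

set_option autoImplicit false

namespace Cfsg.Agent.Lib.CyclicAb

open Subgroup Cfsg.Agent.Lib.Involution

namespace Hyp

variable {p : ℕ} [hp : Fact p.Prime] {G : Type*} [Group G] [Finite G] (H : Hyp p G)
include H

/-- Two involutions of `N(Q)`, neither centralizing `Q`, multiply into `C(Q)`. -/
theorem invert_mul_mem (Q : Sylow p G) {t u : G} (ht : orderOf t = 2) (hu : orderOf u = 2)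
    (htN : t ∈ normalizer ((Q : Subgroup G) : Set G)) (htC : t ∉ centralizer ((Q : Subgroup G) : Set G))
    (huN : u ∈ normalizer ((Q : Subgroup G) : Set G)) (huC : u ∉ centralizer ((Q : Subgroup G) : Set G)) :
    t * u ∈ centralizer ((Q : Subgroup G) : Set G) := by
  have key : ∀ s : G, orderOf s = 2 → s ∈ normalizer ((Q : Subgroup G) : Set G) →
      s ∉ centralizer ((Q : Subgroup G) : Set G) → ∀ w ∈ (Q : Subgroup G), s * w * s⁻¹ = w⁻¹ := by
    intro s hs hsN hsC w hw
    have hw' : s * w * s⁻¹ ∈ (Q : Subgroup G) := (mem_normalizer_iff.1 hsN w).1 hw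
    by_contra hne
    have hy : w * (s * w * s⁻¹) ≠ 1 := fun e => hne (eq_inv_of_mul_eq_one_right e)
    refine hsC (H.cent_of_fix' Q hsN (mul_mem hw hw') hy ?_)
    calc s * (w * (s * w * s⁻¹)) = (s * w * s⁻¹) * (s * s) * w * s⁻¹ := by group
      _ = (s * w * s⁻¹) * w * s⁻¹ := by rw [mul_self hs, mul_one]
      _ = w * (s * w * s⁻¹) * s⁻¹ := by rw [H.sylow_comm Q hw' hw]
      _ = w * (s * w * s⁻¹) * s := by rw [inv_self hs]
  rw [mem_centralizer_iff]
  intro w hw
  have h1 : (t * u) * w * (t * u)⁻¹ = w := by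
    calc (t * u) * w * (t * u)⁻¹ = t * (u * w * u⁻¹) * t⁻¹ := by group
      _ = w := by rw [key u hu huN huC w hw, ← conj_inv, key t ht htN htC w hw, inv_inv]
  exact (mul_inv_eq_iff_eq_mul.1 h1).symm

/-- An odd product of two involutions is a `p`-element. -/
theorem odd_prod {t u : G} (ht : orderOf t = 2) (hu : orderOf u = 2) (hodd : Odd (orderOf (t * u))) :
    ∃ k, (t * u) ^ p ^ k = 1 := by
  obtain ⟨k, m, hm, he⟩ := Nat.exists_eq_pow_mul_and_not_dvd (orderOf_pos (t * u)).ne' p hp.out.ne_one
  refine ⟨k, ?_⟩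
  set v := (t * u) ^ p ^ k with hv
  have hinv : t * v * t⁻¹ = v⁻¹ := by rw [hv, ← conj_pow, conj_prod ht hu, inv_pow]
  have hvo : orderOf v = m := by
    rw [hv, orderOf_pow' _ (pow_pos hp.out.pos k).ne', he, Nat.gcd_mul_right_left,
      Nat.mul_div_cancel_left _ (pow_pos hp.out.pos k)]
  have htv : t ∈ normalizer ((zpowers v : Subgroup G) : Set G) := by
    rw [mem_normalizer_iff]
    have hmap : ∀ z ∈ zpowers v, t * z * t⁻¹ ∈ zpowers v := by
      intro z hz
      obtain ⟨i, rfl⟩ := mem_zpowers_iff.1 hz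
      rw [← conj_zpow, hinv]
      exact zpow_mem (inv_mem (mem_zpowers v)) i
    intro z
    refine ⟨hmap z, fun hz => ?_⟩
    have h := hmap _ hz
    rwa [show t * (t * z * t⁻¹) * t⁻¹ = (t * t) * z * (t * t)⁻¹ by group, mul_self ht, inv_one, one_mul,
      mul_one] at h
  have hK := not_dvd_sup (zpowers_le.2 htv)
    (not_dvd_zpowers (a := t) (by
      rw [ht]; exact fun h => H.hp2 ((Nat.prime_dvd_prime_iff_eq hp.out Nat.prime_two).1 h)))
    (not_dvd_zpowers (a := v) (hvo ▸ hm))
  have hc := H.commute_of_not_dvd hK (mem_sup_left (mem_zpowers t)) (mem_sup_right (mem_zpowers v))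
  rw [mul_inv_eq_iff_eq_mul.2 hc] at hinv
  exact eq_one_of_mul_self_of_odd (hvo ▸ hodd.of_dvd_nat (by rw [he]; exact dvd_mul_left m _))
    (mul_eq_one_iff_eq_inv.2 hinv)

/-- If an involution inverts a `p`-element, it normalizes the Sylow subgroup containing it. -/
theorem mem_normalizer_of_invert {t w : G} (Q : Sylow p G) (hw : w ∈ (Q : Subgroup G)) (hw1 : w ≠ 1)
    (hinv : t * w * t⁻¹ = w⁻¹) : t ∈ normalizer ((Q : Subgroup G) : Set G) :=
  H.mem_normalizer_of_conj_mem Q hw hw1 (hinv ▸ inv_mem hw)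

open scoped Classical in
theorem involution_bound [Fintype G] (P : Sylow p G) {x : G} (hx1 : x ≠ 1) (hxo : ¬ p ∣ orderOf x)
    (hxC : x ∈ centralizer ((P : Subgroup G) : Set G)) :
    ∃ (t : G) (S : Sylow 2 G) (N I : ℕ), 3 ≤ N ∧ orderOf t = 2 ∧ t ∈ (S : Subgroup G) ∧
      Nat.card (S : Subgroup G) = 4 ∧ (∀ a ∈ (S : Subgroup G), a ^ 2 = 1) ∧
      centralizer ((S : Subgroup G) : Set G) = S ∧
      (∀ u v : G, orderOf u = 2 → orderOf v = 2 → IsConj u v) ∧
      Nat.card ↥(centralizer ({t} : Set G)) = 4 * N ∧ Nat.card G = 4 * N * I ∧ I ≤ 4 * N * N + 2 * N + 2 := by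
  obtain ⟨t, A, S, hp3, ht, htA, htC, hSA, hA4, hCA, hexp, hclass, hsurj, hAN, hker, hCt, hcardN⟩ :=
    H.fusion P hx1 hxo hxC
  set N := Nat.card (P : Subgroup G) with hNdef
  have hN3 : 3 ≤ N := by
    rw [← hp3, hNdef]
    exact Nat.le_of_dvd Nat.card_pos
      ((P.2.card_eq_or_dvd).resolve_left fun e => H.sylow_ne_bot P (Subgroup.card_eq_one.1 e))
  have hone : ∀ u v : G, orderOf u = 2 → orderOf v = 2 → IsConj u v := by
    have key : ∀ u : G, orderOf u = 2 → IsConj t u := by
      intro u hu
      obtain ⟨R, hR⟩ := exists_sylow_conj_mem (p := 2) S (w := u) ⟨1, by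
        rw [pow_one]; exact orderOf_dvd_iff_pow_eq_one.1 hu.dvd⟩
      obtain ⟨g, hg⟩ := MulAction.exists_smul_eq G R S
      have hmem : g * u * g⁻¹ ∈ A := hSA ▸ hg ▸ ⟨u, hR, rfl⟩
      exact (hclass _ hmem (ne_one ((orderOf_conj g u).trans hu))).trans
        (isConj_iff.2 ⟨g⁻¹, by group⟩)
    exact fun u v hu hv => (key u hu).symm.trans (key v hv)
  have hCtcard : Nat.card ↥(centralizer ({t} : Set G)) = 4 * N := by rw [hCt, ← hcardN, hA4]
  set inv : Finset G := Finset.univ.filter fun u => orderOf u = 2 with hinvdef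
  set I := inv.card with hI
  have hconjset : (Finset.univ.filter fun u => IsConj u t) = inv := by
    ext u
    simp only [hinvdef, Finset.mem_filter, Finset.mem_univ, true_and]
    exact ⟨fun h => (isConj_orderOf h).trans ht, fun h => hone u t h ht⟩
  have hG : Nat.card G = 4 * N * I := by
    have := Lib.CharAux.card_conj_mul_card_centralizer t
    rw [hconjset, hCtcard] at this
    rw [← this, mul_comm]
  have hSyl : Nat.card (Sylow p G) = I := by
    have h1 : Nat.card (Sylow p G) = (normalizer ((P : Subgroup G) : Set G)).index := P.card_eq_index_normalizer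
    have h2 := (normalizer ((P : Subgroup G) : Set G)).index_mul_card
    rw [← h1, ← hcardN, hA4, hG, mul_comm (4 * N)] at h2
    exact Nat.eq_of_mul_eq_mul_right (by omega) h2
  -- involutions of `N(P)`
  set NP := normalizer ((P : Subgroup G) : Set G) with hNP
  set CP := centralizer ((P : Subgroup G) : Set G) with hCP
  have hCPinv : ∀ u : G, orderOf u = 2 → u ∈ CP → u = t := by
    intro u hu huC
    obtain ⟨a, ha, z, hz, rfl⟩ := hsurj u (centralizer_le_normalizer _ huC)
    have hzC : z ∈ CP := mem_centralizer_iff.2 fun w hw => H.sylow_comm P hw hz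
    have haC : a ∈ CP := by simpa using mul_mem huC (inv_mem hzC)
    have haz : Commute a z := (mem_centralizer_iff.1 haC z hz).symm
    have hz1 : z = 1 := by
      obtain ⟨k, hk⟩ := exists_pow_of_mem P.2 hz
      refine eq_one_of_mul_self_of_odd ?_ ?_
      · refine Odd.of_dvd_nat ?_ (orderOf_dvd_of_pow_eq_one hk)
        exact (hp.out.odd_of_ne_two H.hp2).pow
      · have := mul_self hu
        rw [← pow_two, haz.mul_pow, hexp a ha, one_mul, pow_two] at this
        exact this
    subst hz1
    rw [mul_one] at hu ⊢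
    exact (hker a ha haC).resolve_left (ne_one hu)
  set Q₁ : Finset G := Finset.univ.filter fun u => u ∈ (P : Subgroup G) with hQ₁
  have hQ₁card : Q₁.card = N := by
    rw [hQ₁, hNdef, Nat.card_eq_fintype_card, Fintype.card_subtype]
  set outer : Finset G := Finset.univ.filter fun u => orderOf u = 2 ∧ u ∈ NP ∧ u ∉ CP with houter
  have houter2 : outer.card ≤ 2 * N := by
    set A₁ : Finset G := Finset.univ.filter fun a => a ∈ A ∧ a ∉ CP with hA₁
    have hA₁card : A₁.card ≤ 2 := by
      set AA : Finset G := Finset.univ.filter fun a => a ∈ A with hAA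
      have hAAcard : AA.card = 4 := by
        rw [← hA4, hAA, Nat.card_eq_fintype_card, Fintype.card_subtype]
      have hsub : A₁ ⊆ AA \ {1, t} := by
        intro a ha
        simp only [hA₁, Finset.mem_filter, Finset.mem_univ, true_and] at ha
        simp only [hAA, Finset.mem_sdiff, Finset.mem_filter, Finset.mem_univ, true_and, Finset.mem_insert,
          Finset.mem_singleton, not_or]
        exact ⟨ha.1, fun e => ha.2 (e ▸ one_mem CP), fun e => ha.2 (e ▸ htC)⟩
      refine (Finset.card_le_card hsub).trans ?_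
      rw [Finset.card_sdiff_of_subset, hAAcard, Finset.card_pair (ne_one ht).symm]
      intro a ha
      simp only [Finset.mem_insert, Finset.mem_singleton] at ha
      simp only [hAA, Finset.mem_filter, Finset.mem_univ, true_and]
      rcases ha with rfl | rfl
      exacts [one_mem A, htA]
    refine le_trans (Finset.card_le_card (t := (A₁ ×ˢ Q₁).image fun q => q.1 * q.2) fun u hu => ?_)
      (Finset.card_image_le.trans ?_)
    · simp only [houter, Finset.mem_filter, Finset.mem_univ, true_and] at hu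
      obtain ⟨a, ha, z, hz, rfl⟩ := hsurj u hu.2.1
      refine Finset.mem_image.2 ⟨(a, z), ?_, rfl⟩
      simp only [hA₁, hQ₁, Finset.mem_product, Finset.mem_filter, Finset.mem_univ, true_and]
      exact ⟨⟨ha, fun h => hu.2.2 (mul_mem h (mem_centralizer_iff.2 fun w hw => H.sylow_comm P hw hz))⟩, hz⟩
    · rw [Finset.card_product, hQ₁card]
      exact Nat.mul_le_mul_right _ hA₁card
  -- the partners of an involution of `N(P)` with even product
  have hV : ∀ s : G, orderOf s = 2 → s ∈ NP → s ≠ t →
      (Finset.univ.filter fun u => orderOf u = 2 ∧ u ∈ NP ∧ ¬ Odd (orderOf (s * u))).card ≤ N + 1 := by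
    intro s hs hsN hst
    refine le_trans (Finset.card_le_card (t := insert t (Q₁.image fun z => s * (t * z))) fun u hu => ?_)
      ((Finset.card_insert_le _ _).trans (by
        exact Nat.add_le_add_right (Finset.card_image_le.trans hQ₁card.le) 1))
    simp only [Finset.mem_filter, Finset.mem_univ, true_and] at hu
    by_cases huC : u ∈ CP
    · exact Finset.mem_insert.2 (Or.inl (hCPinv u hu.1 huC))
    refine Finset.mem_insert_of_mem ?_
    have hsu := H.invert_mul_mem P hs hu.1 hsN (fun h => hst (hCPinv s hs h)) hu.2.1 huC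
    obtain ⟨a, ha, z, hz, haz⟩ := hsurj (s * u) (centralizer_le_normalizer _ hsu)
    have haC : a ∈ CP := by
      have : a = (s * u) * z⁻¹ := by rw [← haz, mul_inv_cancel_right]
      rw [this]
      exact mul_mem hsu (inv_mem (mem_centralizer_iff.2 fun w hw => H.sylow_comm P hw hz))
    rcases hker a ha haC with rfl | rfl
    · exfalso
      rw [one_mul] at haz
      obtain ⟨k, hk⟩ := exists_pow_of_mem P.2 hz
      exact hu.2.2 (Odd.of_dvd_nat (hp.out.odd_of_ne_two H.hp2).pow (haz ▸ orderOf_dvd_of_pow_eq_one hk))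
    · refine Finset.mem_image.2 ⟨z, by simp [hQ₁, hz], ?_⟩
      rw [haz, mul_mul_self_left hs]
  -- covering of the involutions
  set Z₁ : Finset G := Finset.univ.filter fun z => orderOf z = 2 ∧ z ∈ centralizer ({t} : Set G) with hZ₁
  let V : G → Finset G := fun z => Finset.univ.filter fun u =>
    orderOf u = 2 ∧ z * u = u * z ∧ ¬ Odd (orderOf (t * u)) ∧ z ≠ t
  have hNPinv : (Finset.univ.filter fun u => orderOf u = 2 ∧ u ∈ NP).card ≤ 2 * N + 1 := by
    refine le_trans (Finset.card_le_card (t := insert t outer) fun u hu => ?_)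
      ((Finset.card_insert_le _ _).trans (Nat.add_le_add_right houter2 1))
    simp only [Finset.mem_filter, Finset.mem_univ, true_and] at hu
    by_cases huC : u ∈ CP
    · exact Finset.mem_insert.2 (Or.inl (hCPinv u hu.1 huC))
    · exact Finset.mem_insert_of_mem (by simp [houter, hu, huC])
  have hZcard : Z₁.card ≤ 2 * N + 1 := by rw [hZ₁, hCt]; exact hNPinv
  have hVcard : ∀ z ∈ Z₁.erase t, (V z).card ≤ N + 1 := by
    intro z hz
    simp only [hZ₁, Finset.mem_erase, Finset.mem_filter, Finset.mem_univ, true_and] at hz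
    obtain ⟨hzt, hz2, hzc⟩ := hz
    obtain ⟨g, hg⟩ := isConj_iff.1 (hone t z ht hz2)
    have hmem : ∀ w : G, z * w = w * z → g⁻¹ * w * g ∈ NP := by
      intro w hw
      rw [← hCt, mem_centralizer_singleton_iff]
      calc g⁻¹ * w * g * t = g⁻¹ * (w * (g * t * g⁻¹)) * g := by group
        _ = g⁻¹ * (z * w) * g := by rw [hg, hw]
        _ = g⁻¹ * (g * t * g⁻¹ * w) * g := by rw [hg]
        _ = t * (g⁻¹ * w * g) := by group
    have hs : g⁻¹ * t * g ∈ NP := hmem t ((mem_centralizer_singleton_iff.1 hzc))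
    have hso : orderOf (g⁻¹ * t * g) = 2 := by
      have := orderOf_conj g⁻¹ t
      rw [inv_inv] at this
      exact this.trans ht
    have hne : g⁻¹ * t * g ≠ t := fun e => hzt (by
      rw [← hg]
      calc g * t * g⁻¹ = g * (g⁻¹ * t * g) * g⁻¹ := by rw [e]
        _ = t := by group)
    refine le_trans ?_ (hV _ hso hs hne)
    refine Finset.card_le_card_of_injOn (fun u => g⁻¹ * u * g) (fun u hu => ?_) fun u _ v _ e => by
      exact mul_left_cancel (mul_right_cancel e)
    simp only [V, Finset.coe_filter, Set.mem_setOf_eq, Finset.mem_univ, true_and] at hu ⊢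
    refine ⟨by rw [← hu.1]; have := orderOf_conj g⁻¹ u; rwa [inv_inv] at this, hmem u hu.2.1, ?_⟩
    rw [show g⁻¹ * t * g * (g⁻¹ * u * g) = g⁻¹ * (t * u) * g by group]
    have := orderOf_conj g⁻¹ (t * u)
    rw [inv_inv] at this
    rw [this]
    exact hu.2.2.1
  -- odd products
  set F : Finset (Sylow p G) := Finset.univ.filter fun Q : Sylow p G =>
    t ∈ normalizer ((Q : Subgroup G) : Set G) ∧ t ∉ centralizer ((Q : Subgroup G) : Set G) with hF
  have hFcard : F.card ≤ 2 * N := by
    let r : Sylow p G → G → Prop := fun Q u =>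
      orderOf u = 2 ∧ u ∈ normalizer ((Q : Subgroup G) : Set G) ∧ u ∉ centralizer ((Q : Subgroup G) : Set G)
    have hconj : ∀ (g : G) (Q : Sylow p G) (u : G), r Q u → r (g • Q) (g * u * g⁻¹) := by
      intro g Q u h
      refine ⟨(orderOf_conj g u).trans h.1, Sylow.smul_eq_iff_mem_normalizer.1 ?_, fun hc => h.2.2 ?_⟩
      · rw [← mul_smul, inv_mul_cancel_right, mul_smul, Sylow.smul_eq_iff_mem_normalizer.2 h.2.1]
      · rw [mem_centralizer_iff] at hc ⊢
        intro w hw
        have h2 := hc (g * w * g⁻¹) ⟨w, hw, rfl⟩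
        calc w * u = g⁻¹ * ((g * w * g⁻¹) * (g * u * g⁻¹)) * g := by group
          _ = g⁻¹ * ((g * u * g⁻¹) * (g * w * g⁻¹)) * g := by rw [h2]
          _ = u * w := by group
    have hrow : ∀ Q : Sylow p G, (Finset.univ.filter fun u => r Q u).card ≤ 2 * N := by
      intro Q
      obtain ⟨g, hg⟩ := MulAction.exists_smul_eq G Q P
      refine le_trans ?_ houter2
      refine Finset.card_le_card_of_injOn (fun u => g * u * g⁻¹) (fun u hu => ?_) fun u _ v _ e => by
        exact mul_left_cancel (mul_right_cancel e)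
      simp only [Finset.coe_filter, Set.mem_setOf_eq, Finset.mem_univ, true_and] at hu
      simp only [houter, Finset.coe_filter, Set.mem_setOf_eq, Finset.mem_univ, true_and]
      have h := hconj g Q u hu
      rw [hg] at h
      exact h
    have hcol : ∀ u ∈ inv, F.card ≤ (Finset.univ.filter fun Q => r Q u).card := by
      intro u hu
      simp only [hinvdef, Finset.mem_filter, Finset.mem_univ, true_and] at hu
      obtain ⟨g, hg⟩ := isConj_iff.1 (hone t u ht hu)
      refine Finset.card_le_card_of_injOn (fun Q => g • Q) (fun Q hQ => ?_) fun Q _ R _ e =>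
        MulAction.injective g e
      simp only [hF, Finset.coe_filter, Set.mem_setOf_eq, Finset.mem_univ, true_and] at hQ ⊢
      exact hg ▸ hconj g Q t ⟨ht, hQ⟩
    have h := Finset.card_mul_le_card_mul' (s := (Finset.univ : Finset (Sylow p G))) (t := inv) r
      (m := 2 * N) (n := F.card) (fun u hu => hcol u hu) (fun Q _ => le_trans (Finset.card_le_card (fun u hu => by
        simp only [Finset.bipartiteAbove, Finset.mem_filter] at hu
        simp [hu.2])) (hrow Q))
    rw [Finset.card_univ, ← Nat.card_eq_fintype_card, hSyl, ← hI] at h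
    have hIpos : 0 < I := Finset.card_pos.2 ⟨t, by simp [hinvdef, ht]⟩
    rw [mul_comm I (2 * N)] at h
    rw [mul_comm I F.card] at h
    exact Nat.le_of_mul_le_mul_right h hIpos
  let W : Sylow p G → Finset G := fun Q =>
    ((Finset.univ.filter fun w => w ∈ (Q : Subgroup G)).erase 1).image (fun w => t * w)
  have hWcard : ∀ Q ∈ F, (W Q).card ≤ N - 1 := by
    intro Q _
    refine Finset.card_image_le.trans ?_
    rw [Finset.card_erase_of_mem (by simp [one_mem]), ← Fintype.card_subtype, ← Nat.card_eq_fintype_card,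
      hNdef, Sylow.card_eq_multiplicity, Sylow.card_eq_multiplicity]
  have hcover : inv ⊆ ((insert t ((Finset.univ.filter fun u => orderOf u = 2 ∧ u ∈ NP))) ∪
      (Z₁.erase t).biUnion V) ∪ F.biUnion W := by
    intro u hu
    simp only [hinvdef, Finset.mem_filter, Finset.mem_univ, true_and] at hu
    by_cases hodd : Odd (orderOf (t * u))
    · by_cases htu : t * u = 1
      · refine Finset.mem_union_left _ (Finset.mem_union_left _ (Finset.mem_insert.2 (Or.inl ?_)))
        rw [← inv_self ht]
        exact eq_inv_of_mul_eq_one_right htu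
      obtain ⟨Q, hQ⟩ := exists_sylow_conj_mem P (H.odd_prod ht hu hodd)
      refine Finset.mem_union_right _ (Finset.mem_biUnion.2 ⟨Q, ?_, Finset.mem_image.2 ⟨t * u, ?_, ?_⟩⟩)
      · simp only [hF, Finset.mem_filter, Finset.mem_univ, true_and]
        refine ⟨H.mem_normalizer_of_invert Q hQ htu (conj_prod ht hu), fun hc => ?_⟩
        have h1 := conj_prod ht hu
        rw [mul_inv_eq_iff_eq_mul.2 ((mem_centralizer_iff.1 hc _ hQ).symm)] at h1
        exact htu (eq_one_of_mul_self_of_odd hodd (mul_eq_one_iff_eq_inv.2 h1))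
      · simp [htu, hQ]
      · exact mul_mul_self_left ht u
    · obtain ⟨z, hz, -, hzt, hzu⟩ := exists_involution_commute ht hu hodd
      by_cases he : z = t
      · refine Finset.mem_union_left _ (Finset.mem_union_left _ (Finset.mem_insert_of_mem ?_))
        simp only [Finset.mem_filter, Finset.mem_univ, true_and]
        exact ⟨hu, hCt ▸ mem_centralizer_singleton_iff.2 (he ▸ hzu).eq.symm⟩
      · refine Finset.mem_union_left _ (Finset.mem_union_right _ (Finset.mem_biUnion.2 ⟨z, ?_, ?_⟩))
        · simp only [hZ₁, Finset.mem_erase, Finset.mem_filter, Finset.mem_univ, true_and]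
          exact ⟨he, hz, mem_centralizer_singleton_iff.2 hzt.eq⟩
        · simp only [V, Finset.mem_filter, Finset.mem_univ, true_and]
          exact ⟨hu, hzu.eq, hodd, he⟩
  refine ⟨t, S, N, I, hN3, ht, hSA ▸ htA, hSA ▸ hA4, hSA ▸ hexp, hSA ▸ hCA, hone, hCtcard, hG, ?_⟩
  have h1 : (Z₁.erase t).card ≤ 2 * N := by
    rw [Finset.card_erase_of_mem (by simp [hZ₁, ht, mem_centralizer_singleton_iff])]; omega
  have h2 : ((Z₁.erase t).biUnion V).card ≤ 2 * N * (N + 1) :=
    (Finset.card_biUnion_le_card_mul _ _ _ hVcard).trans (Nat.mul_le_mul_right _ h1)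
  have h3 : (F.biUnion W).card ≤ 2 * N * (N - 1) :=
    (Finset.card_biUnion_le_card_mul _ _ _ hWcard).trans (Nat.mul_le_mul_right _ hFcard)
  have h4 := Finset.card_le_card hcover
  have h5 := Finset.card_union_le ((insert t ((Finset.univ.filter fun u => orderOf u = 2 ∧ u ∈ NP))) ∪
      (Z₁.erase t).biUnion V) (F.biUnion W)
  have h6 := Finset.card_union_le (insert t ((Finset.univ.filter fun u => orderOf u = 2 ∧ u ∈ NP)))
      ((Z₁.erase t).biUnion V)
  have h7 : (insert t ((Finset.univ.filter fun u => orderOf u = 2 ∧ u ∈ NP))).card ≤ 2 * N + 1 := by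
    rw [Finset.insert_eq_of_mem (by simp only [Finset.mem_filter, Finset.mem_univ, true_and]; exact ⟨ht, hAN htA⟩)]
    exact hNPinv
  obtain ⟨M, hM⟩ : ∃ M, N = M + 1 := ⟨N - 1, by omega⟩
  rw [← hI] at h4
  rw [hM] at h2 h3 h7 ⊢
  simp only [Nat.add_sub_cancel] at h3
  nlinarith

/-- No `p'`-element centralizes a Sylow subgroup, if the group has even order counted above. -/
theorem centralizer_le_self_of (hfalse : ∀ (P : Sylow p G) (x : G), x ≠ 1 → ¬ p ∣ orderOf x →
      x ∈ centralizer ((P : Subgroup G) : Set G) → False) (P : Sylow p G) :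
    centralizer ((P : Subgroup G) : Set G) ≤ (P : Subgroup G) := fun g hg =>
  mem_of_parts hp.out _ _ (fun a ha hao => by
      by_cases ha1 : a = 1
      · rw [ha1]; exact one_mem _
      · exact (hfalse P a ha1 hao ha).elim)
    (fun a ha hak => mem_sylow_of_normalizer P (centralizer_le_normalizer _ ha) hak) hg

/-- With self-centralizing Sylow subgroups the group has odd order. -/
theorem odd_card (hself : ∀ P : Sylow p G, centralizer ((P : Subgroup G) : Set G) ≤ (P : Subgroup G)) :
    Odd (Nat.card G) := by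
  classical
  haveI := Fintype.ofFinite G
  by_contra hG
  rw [Nat.not_odd_iff_even] at hG
  haveI : Fact (Nat.Prime 2) := ⟨Nat.prime_two⟩
  obtain ⟨S⟩ : Nonempty (Sylow 2 G) := inferInstance
  have hS : (S : Subgroup G) ≠ ⊤ := fun e => by
    obtain ⟨k, hk⟩ := IsPGroup.iff_card.1 S.2
    rw [e, Subgroup.card_top] at hk
    exact H.hp2 ((Nat.prime_dvd_prime_iff_eq hp.out Nat.prime_two).1 (hp.out.dvd_of_dvd_pow (hk ▸ H.dvd_card)))
  obtain ⟨y, hyp, hyS, hyC⟩ := H.burnside H.hp2.symm S (H.no_sylow_complement S hG.two_dvd hS)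
  obtain ⟨⟨t, htS⟩, ht⟩ := exists_prime_orderOf_dvd_card' (G := (S : Subgroup G)) 2 (S.dvd_card_of_dvd_card hG.two_dvd)
  rw [orderOf_mk] at ht
  -- centralizers of involutions are abelian of order prime to `p`
  have hB : ∀ s : G, orderOf s = 2 → ¬ p ∣ Nat.card ↥(centralizer ({s} : Set G)) := by
    intro s hs
    refine not_dvd_card fun w hw hwo => ?_
    obtain ⟨Q, hQ⟩ := exists_sylow_conj_mem (p := p) (Classical.arbitrary _) (w := w)
      ⟨1, by rw [pow_one]; exact orderOf_dvd_iff_pow_eq_one.1 hwo.dvd⟩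
    have hsQ : s ∈ (Q : Subgroup G) := hself Q (H.centralizer_le Q hQ
      (fun e => hp.out.ne_one (by rw [← hwo, e, orderOf_one]))
      (mem_centralizer_singleton_iff.2 ((mem_centralizer_singleton_iff.1 hw).symm)))
    obtain ⟨k, hk⟩ := exists_pow_of_mem Q.2 hsQ
    have := orderOf_dvd_of_pow_eq_one hk
    rw [hs] at this
    exact H.hp2 ((Nat.prime_dvd_prime_iff_eq Nat.prime_two hp.out).1 (Nat.prime_two.dvd_of_dvd_pow this)).symm
  set B := centralizer ({t} : Set G) with hBdef
  have hSp : ¬ p ∣ Nat.card (S : Subgroup G) := by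
    obtain ⟨k, hk⟩ := IsPGroup.iff_card.1 S.2
    rw [hk]
    exact fun h => H.hp2 ((Nat.prime_dvd_prime_iff_eq hp.out Nat.prime_two).1 (hp.out.dvd_of_dvd_pow h))
  have hSB : (S : Subgroup G) ≤ B := fun z hz =>
    mem_centralizer_singleton_iff.2 (H.commute_of_not_dvd hSp hz htS)
  have hBS : B = centralizer ((S : Subgroup G) : Set G) := le_antisymm
    (fun b hb => mem_centralizer_iff.2 fun z hz => H.commute_of_not_dvd (hB t ht) (hSB hz) hb)
    (fun b hb => mem_centralizer_singleton_iff.2 ((mem_centralizer_iff.1 hb t htS).symm))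
  have hyB : ∀ u ∈ B, y * u * y⁻¹ ∈ B := by
    rw [hBS]
    intro u hu
    rw [mem_centralizer_iff] at hu ⊢
    intro z hz
    have hz' : y⁻¹ * z * y ∈ (S : Subgroup G) := by
      have := (mem_normalizer_iff.1 (inv_mem hyS) z).1 hz
      rwa [inv_inv] at this
    calc z * (y * u * y⁻¹) = y * ((y⁻¹ * z * y) * u) * y⁻¹ := by group
      _ = y * (u * (y⁻¹ * z * y)) * y⁻¹ := by rw [hu _ hz']
      _ = y * u * y⁻¹ * z := by group
  set cls : Finset G := Finset.univ.filter fun u => IsConj u t with hcls
  have hclsdvd : p ∣ cls.card := by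
    have h := Lib.CharAux.card_conj_mul_card_centralizer t
    rw [← hcls] at h
    exact (hp.out.dvd_mul.1 (h ▸ H.dvd_card)).resolve_right (hB t ht)
  set Cm : Finset G := cls.filter fun u => u ∈ B with hCm
  set Nc : Finset G := cls.filter fun u => u ∉ B with hNc
  have hCmdvd : p ∣ Cm.card := by
    obtain ⟨k, hk⟩ := hyp
    let f : Function.End {u // u ∈ Cm} := fun u => ⟨y * u.1 * y⁻¹, by
      have hu := u.2
      simp only [hCm, hcls, Finset.mem_filter, Finset.mem_univ, true_and] at hu ⊢
      exact ⟨(isConj_iff.2 ⟨y⁻¹, by group⟩ : IsConj (y * u.1 * y⁻¹) u.1).trans hu.1, hyB _ hu.2⟩⟩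
    have hf : ∀ (j : ℕ) (u : {u // u ∈ Cm}), ((f ^ j) u).1 = y ^ j * u.1 * (y ^ j)⁻¹ := by
      intro j
      induction j with
      | zero => intro u; simp; rfl
      | succ j ih =>
        intro u
        rw [pow_succ']
        show y * ((f ^ j) u).1 * y⁻¹ = _
        rw [ih, pow_succ']; group
    have hfk : f ^ p ^ k = 1 := funext fun u => Subtype.ext (by rw [hf, hk]; simp; rfl)
    have hmod := Equiv.Perm.card_fixedPoints_modEq (p := p) (n := k) hfk
    haveI : IsEmpty f.fixedPoints := ⟨fun u => by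
      have hfix : y * u.1.1 * y⁻¹ = u.1.1 := congrArg Subtype.val u.2
      have hu := u.1.2
      simp only [hCm, hcls, Finset.mem_filter, Finset.mem_univ, true_and] at hu
      have ho : orderOf u.1.1 = 2 := (isConj_orderOf hu.1).trans ht
      obtain ⟨j, -, hj⟩ := (Nat.dvd_prime_pow hp.out).1 (orderOf_dvd_of_pow_eq_one hk)
      have hy1 : y ≠ 1 := fun e => hyC (e ▸ one_mem _)
      have hj0 : j ≠ 0 := fun e => hy1 (orderOf_eq_one_iff.1 (by rw [hj, e, pow_zero]))
      have hd : p ∣ orderOf y := hj ▸ dvd_pow_self p hj0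
      refine hB _ ho (hd.trans ?_)
      have hyc : y ∈ centralizer ({u.1.1} : Set G) :=
        mem_centralizer_singleton_iff.2 (mul_inv_eq_iff_eq_mul.1 hfix)
      rw [← orderOf_mk y hyc]
      exact orderOf_dvd_natCard _⟩
    rw [Fintype.card_coe, Fintype.card_eq_zero] at hmod
    exact (Nat.modEq_zero_iff_dvd).1 hmod
  set F : Finset (Sylow p G) := Finset.univ.filter fun Q : Sylow p G =>
    t ∈ normalizer ((Q : Subgroup G) : Set G) with hF
  obtain ⟨P⟩ : Nonempty (Sylow p G) := inferInstance
  have htQ : ∀ Q : Sylow p G, t ∉ centralizer ((Q : Subgroup G) : Set G) := by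
    intro Q h
    obtain ⟨k, hk⟩ := exists_pow_of_mem Q.2 (hself Q h)
    have := orderOf_dvd_of_pow_eq_one hk
    rw [ht] at this
    exact H.hp2 ((Nat.prime_dvd_prime_iff_eq Nat.prime_two hp.out).1 (Nat.prime_two.dvd_of_dvd_pow this)).symm
  have hodd_of_mem : ∀ (Q : Sylow p G) (w : G), w ∈ (Q : Subgroup G) → Odd (orderOf w) := by
    intro Q w hw
    obtain ⟨k, hk⟩ := exists_pow_of_mem Q.2 hw
    exact Odd.of_dvd_nat (hp.out.odd_of_ne_two H.hp2).pow (orderOf_dvd_of_pow_eq_one hk)
  have hbij : Nc = F.biUnion fun Q : Sylow p G =>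
      ((Finset.univ.filter fun w => w ∈ (Q : Subgroup G)).erase 1).image (fun w => t * w) := by
    ext u
    simp only [hNc, hcls, hF, Finset.mem_filter, Finset.mem_univ, true_and, Finset.mem_biUnion,
      Finset.mem_image, Finset.mem_erase]
    constructor
    · rintro ⟨hut, huB⟩
      have hu : orderOf u = 2 := (isConj_orderOf hut).trans ht
      have hodd : Odd (orderOf (t * u)) := by
        by_contra hodd
        obtain ⟨z, hz, -, hzt, hzu⟩ := exists_involution_commute ht hu hodd
        exact huB (mem_centralizer_singleton_iff.2 (H.commute_of_not_dvd (hB z hz)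
          (mem_centralizer_singleton_iff.2 hzu.eq.symm) (mem_centralizer_singleton_iff.2 hzt.eq.symm)))
      have htu : t * u ≠ 1 := fun e => huB (by
        rw [show u = t⁻¹ from eq_inv_of_mul_eq_one_right e, inv_self ht]
        exact mem_centralizer_singleton_iff.2 rfl)
      obtain ⟨Q, hQ⟩ := exists_sylow_conj_mem P (H.odd_prod ht hu hodd)
      exact ⟨Q, H.mem_normalizer_of_invert Q hQ htu (conj_prod ht hu), t * u, ⟨htu, hQ⟩, mul_mul_self_left ht u⟩
    · rintro ⟨Q, hQN, w, ⟨hw1, hwQ⟩, rfl⟩
      have hinv : t * w * t⁻¹ = w⁻¹ := by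
        have hw' : t * w * t⁻¹ ∈ (Q : Subgroup G) := (mem_normalizer_iff.1 hQN w).1 hwQ
        by_contra hne
        have hy : w * (t * w * t⁻¹) ≠ 1 := fun e => hne (eq_inv_of_mul_eq_one_right e)
        refine htQ Q (H.cent_of_fix' Q hQN (mul_mem hwQ hw') hy ?_)
        calc t * (w * (t * w * t⁻¹)) = (t * w * t⁻¹) * (t * t) * w * t⁻¹ := by group
          _ = (t * w * t⁻¹) * w * t⁻¹ := by rw [mul_self ht, mul_one]
          _ = w * (t * w * t⁻¹) * t⁻¹ := by rw [H.sylow_comm Q hw' hwQ]
          _ = w * (t * w * t⁻¹) * t := by rw [inv_self ht]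
      have htw2 : t * w * (t * w) = 1 := by
        rw [inv_self ht] at hinv
        rw [← mul_assoc, hinv, inv_mul_cancel]
      have htw1 : t * w ≠ 1 := fun e => by
        have h := hodd_of_mem Q t (by rw [eq_inv_of_mul_eq_one_left e]; exact inv_mem hwQ)
        rw [ht] at h
        exact Nat.not_odd_iff_even.2 even_two h
      have htw : orderOf (t * w) = 2 := orderOf_two_of htw2 htw1
      refine ⟨(isConj_of_odd ht htw (by rw [mul_mul_self_left ht]; exact hodd_of_mem Q w hwQ)).symm, fun hc => ?_⟩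
      have h1 := mem_centralizer_singleton_iff.1 hc
      have h2 : t * w * t⁻¹ = w := by
        rw [inv_self ht, h1, mul_mul_self_left ht]
      rw [hinv] at h2
      exact hw1 (eq_one_of_mul_self_of_odd (hodd_of_mem Q w hwQ) (mul_eq_one_iff_eq_inv.2 h2.symm))
  have hN1 : ∀ Q : Sylow p G,
      (((Finset.univ.filter fun w => w ∈ (Q : Subgroup G)).erase 1).image (fun w => t * w)).card =
        Nat.card (P : Subgroup G) - 1 := by
    intro Q
    rw [Finset.card_image_of_injective _ (mul_right_injective t), Finset.card_erase_of_mem (by simp [one_mem]),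
      ← Fintype.card_subtype, ← Nat.card_eq_fintype_card, Sylow.card_eq_multiplicity, Sylow.card_eq_multiplicity]
  have hNcard : Nc.card = F.card * (Nat.card (P : Subgroup G) - 1) := by
    rw [hbij, Finset.card_biUnion, Finset.sum_congr rfl fun Q _ => hN1 Q, Finset.sum_const, smul_eq_mul]
    intro Q _ R _ hQR
    rw [Function.onFun, Finset.disjoint_left]
    intro u hu hu'
    simp only [Finset.mem_image, Finset.mem_erase, Finset.mem_filter, Finset.mem_univ, true_and] at hu hu'
    obtain ⟨w, ⟨hw1, hwQ⟩, rfl⟩ := hu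
    obtain ⟨v, ⟨-, hvR⟩, hvw⟩ := hu'
    rw [mul_left_cancel hvw] at hvR
    exact hQR (H.unique Q R hwQ hvR hw1)
  have hsum : cls.card = Cm.card + Nc.card := (Finset.card_filter_add_card_filter_not _).symm
  rcases F.eq_empty_or_nonempty with hFe | ⟨Q₀, hQ₀⟩
  · -- all conjugates of `t` commute
    rw [hFe, Finset.card_empty, zero_mul, Finset.card_eq_zero] at hNcard
    have hall : ∀ u v : G, IsConj u t → IsConj v t → u * v = v * u := by
      intro u v hu hv
      obtain ⟨g, hg⟩ := isConj_iff.1 hu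
      have hv' : IsConj (g * v * g⁻¹) t := (isConj_iff.2 ⟨g⁻¹, by group⟩ : IsConj (g * v * g⁻¹) v).trans hv
      have hmem : g * v * g⁻¹ ∈ B := by
        by_contra hn
        have : g * v * g⁻¹ ∈ Nc := by
          simp only [hNc, hcls, Finset.mem_filter, Finset.mem_univ, true_and]
          exact ⟨hv', hn⟩
        rw [hNcard] at this
        exact (Finset.notMem_empty _) this
      have h := mem_centralizer_singleton_iff.1 hmem
      rw [← hg] at h
      calc u * v = g⁻¹ * ((g * u * g⁻¹) * (g * v * g⁻¹)) * g := by group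
        _ = g⁻¹ * ((g * v * g⁻¹) * (g * u * g⁻¹)) * g := by rw [h]
        _ = v * u := by group
    have hn : (Subgroup.closure {u : G | IsConj u t}) = ⊤ := by
      refine H.normal_eq_top ?_ fun e => ne_one ht (Subgroup.mem_bot.1 (e ▸ Subgroup.subset_closure (IsConj.refl t)))
      refine ⟨fun n hn g => ?_⟩
      induction hn using Subgroup.closure_induction with
      | mem u hu => exact Subgroup.subset_closure ((isConj_iff.2 ⟨g⁻¹, by group⟩ : IsConj (g * u * g⁻¹) u).trans hu)
      | one => simp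
      | mul a b _ _ ha hb => rw [show g * (a * b) * g⁻¹ = (g * a * g⁻¹) * (g * b * g⁻¹) by group]; exact mul_mem ha hb
      | inv a _ ha => rw [show g * a⁻¹ * g⁻¹ = (g * a * g⁻¹)⁻¹ by group]; exact inv_mem ha
    refine H.ncomm fun a b => ?_
    haveI := Subgroup.isMulCommutative_closure (k := {u : G | IsConj u t}) fun u hu v hv => hall u v hu hv
    have ha : a ∈ Subgroup.closure {u : G | IsConj u t} := hn ▸ mem_top a
    have hb : b ∈ Subgroup.closure {u : G | IsConj u t} := hn ▸ mem_top b
    exact congrArg Subtype.val (mul_comm' (⟨a, ha⟩ : Subgroup.closure {u : G | IsConj u t}) ⟨b, hb⟩)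
  · simp only [hF, Finset.mem_filter, Finset.mem_univ, true_and] at hQ₀
    have horb : (F : Set (Sylow p G)) = MulAction.orbit B Q₀ := by
      ext Q
      simp only [hF, Finset.coe_filter, Finset.mem_univ, true_and, Set.mem_setOf_eq]
      constructor
      · intro hQ
        obtain ⟨g, rfl⟩ := MulAction.exists_smul_eq G Q₀ Q
        have hu2 : orderOf (g⁻¹ * t * g) = 2 := by
          have := orderOf_conj g⁻¹ t
          rw [inv_inv] at this
          exact this.trans ht
        have huN : g⁻¹ * t * g ∈ normalizer ((Q₀ : Subgroup G) : Set G) := by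
          refine Sylow.smul_eq_iff_mem_normalizer.1 ?_
          rw [mul_smul, mul_smul, inv_smul_eq_iff]
          exact Sylow.smul_eq_iff_mem_normalizer.2 hQ
        have huC : g⁻¹ * t * g ∉ centralizer ((Q₀ : Subgroup G) : Set G) := fun h => by
          have h' := hodd_of_mem Q₀ _ (hself Q₀ h)
          rw [hu2] at h'
          exact Nat.not_odd_iff_even.2 even_two h'
        have hprod : t * (g⁻¹ * t * g) ∈ (Q₀ : Subgroup G) :=
          hself Q₀ (H.invert_mul_mem Q₀ ht hu2 hQ₀ (htQ Q₀) huN huC)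
        obtain ⟨k, hk⟩ := conj_of_odd ht hu2 (hodd_of_mem Q₀ _ hprod)
        set h := (t * (g⁻¹ * t * g)) ^ k with hh
        have hhQ : h ∈ (Q₀ : Subgroup G) := pow_mem hprod k
        refine ⟨⟨g * h, mem_centralizer_singleton_iff.2 ?_⟩, ?_⟩
        · calc g * h * t = g * (h * t * h⁻¹) * h := by group
            _ = g * (g⁻¹ * t * g) * h := by rw [hk]
            _ = t * (g * h) := by group
        · show (g * h) • Q₀ = g • Q₀
          rw [mul_smul, Sylow.smul_eq_iff_mem_normalizer.2 (le_normalizer hhQ)]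
      · rintro ⟨⟨b, hb⟩, rfl⟩
        show t ∈ normalizer (((b • Q₀ : Sylow p G) : Subgroup G) : Set G)
        refine Sylow.smul_eq_iff_mem_normalizer.1 ?_
        rw [← mul_smul, ← mem_centralizer_singleton_iff.1 hb, mul_smul, Sylow.smul_eq_iff_mem_normalizer.2 hQ₀]
    have hFdvd : F.card ∣ Nat.card B := by
      rw [← Set.ncard_coe_finset, horb, ← Nat.card_coe_set_eq,
        Nat.card_congr (MulAction.orbitEquivQuotientStabilizer B Q₀)]
      exact Subgroup.card_quotient_dvd_card _
    have hP1 : ¬ p ∣ Nat.card (P : Subgroup G) - 1 := fun h => by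
      have h1 : p ∣ Nat.card (P : Subgroup G) :=
        (P.2.card_eq_or_dvd).resolve_left fun e => H.sylow_ne_bot P (Subgroup.card_eq_one.1 e)
      have := Nat.dvd_sub h1 h
      rw [Nat.sub_sub_self Nat.card_pos] at this
      exact hp.out.ne_one (Nat.dvd_one.1 this)
    have hNd : p ∣ Nc.card := (Nat.dvd_add_right hCmdvd).1 (hsum ▸ hclsdvd)
    rw [hNcard] at hNd
    exact (hp.out.dvd_mul.1 hNd).elim (fun h => hB t ht (h.trans hFdvd)) hP1

end Hyp

end Cfsg.Agent.Lib.CyclicAb
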