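import Cfsg.Agent.Lib.CyclicAb.Setup

/-!
A `p'`-element centralizing a Sylow `p`-subgroup forces `p = 3` and a Klein four Sylow 2-subgroup.
-/

set_option autoImplicit false

namespace Cfsg.Agent.Lib.CyclicAb

open Subgroup

theorem mulAut_cyclic {G : Type*} [Group G] [Finite G] {p : ℕ} [hp : Fact p.Prime] (Z : Subgroup G)
    [IsCyclic Z] (hZ : Nat.card Z = p) : IsCyclic (MulAut Z) ∧ Nat.card (MulAut Z) = p - 1 := by
  refine ⟨?_, by rw [IsCyclic.card_mulAut, hZ, Nat.totient_prime hp.out]⟩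
  haveI : Fact (Nat.card Z).Prime := ⟨hZ ▸ hp.out⟩
  exact isCyclic_of_surjective _ (IsCyclic.mulAutMulEquiv Z).symm.surjective

theorem card_le_sq {M : Type*} [Group M] [Finite M] [IsCyclic M] {q : ℕ} (hq : 0 < q) :
    Nat.card {m : M // m ^ q = 1} ≤ q := by
  classical
  haveI := Fintype.ofFinite M
  rw [Nat.card_eq_fintype_card, Fintype.card_subtype]
  exact IsCyclic.card_pow_eq_one_le hq

namespace Hyp

variable {p : ℕ} [hp : Fact p.Prime] {G : Type*} [Group G] [Finite G] (H : Hyp p G)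
include H

/-- The complement of `P` in `N(P)`. -/
theorem exists_complement (P : Sylow p G) : ∃ A : Subgroup G, A ≤ normalizer ((P : Subgroup G) : Set G) ∧
    ¬ p ∣ Nat.card A ∧ (∀ n ∈ normalizer ((P : Subgroup G) : Set G), ∃ a ∈ A, ∃ u ∈ (P : Subgroup G), a * u = n) ∧
    Nat.card A * Nat.card (P : Subgroup G) = Nat.card ↥(normalizer ((P : Subgroup G) : Set G)) ∧
    ¬ A ≤ centralizer ((P : Subgroup G) : Set G) := by
  set N := normalizer ((P : Subgroup G) : Set G) with hN
  set P' := (P : Subgroup G).subgroupOf N with hP'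
  haveI : P'.Normal := normal_in_normalizer
  have hidx : ¬ p ∣ P'.index := fun h =>
    P.not_dvd_index (h.trans (relIndex_dvd_index_of_le le_normalizer))
  have hcardP : Nat.card P' = Nat.card (P : Subgroup G) := Nat.card_congr (subgroupOfEquivOfLe le_normalizer).toEquiv
  have hcop : Nat.Coprime (Nat.card P') P'.index := by
    obtain ⟨k, hk⟩ := IsPGroup.iff_card.1 P.2
    rw [hcardP, hk]
    exact Nat.Coprime.pow_left k (hp.out.coprime_iff_not_dvd.2 hidx)
  obtain ⟨A', hA'⟩ := exists_right_complement'_of_coprime hcop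
  have hcardA : Nat.card (A'.map N.subtype) = Nat.card A' :=
    (Nat.card_congr (equivMapOfInjective _ _ N.subtype_injective).toEquiv).symm
  have hsurj : ∀ n ∈ N, ∃ a ∈ A'.map N.subtype, ∃ u ∈ (P : Subgroup G), a * u = n := by
    intro n hn
    obtain ⟨⟨a, u⟩, h⟩ := (Subgroup.isComplement_iff_existsUnique.1 hA'.symm ⟨n, hn⟩).exists
    exact ⟨_, ⟨a.1, a.2, rfl⟩, ((u : N) : G), mem_subgroupOf.1 u.2, congrArg Subtype.val h⟩
  refine ⟨A'.map N.subtype, map_subtype_le _, ?_, hsurj, ?_, ?_⟩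
  · rw [hcardA, ← hA'.symm.index_eq_card]
    exact hidx
  · rw [hcardA, ← hA'.card_mul, hcardP, mul_comm]
  · intro h
    refine H.nc P fun n hn => ?_
    obtain ⟨a, ha, u, hu, rfl⟩ := hsurj n hn
    refine mul_mem (h ha) (mem_centralizer_iff.2 fun z hz => H.sylow_comm P hz hu)

theorem fusion (P : Sylow p G) {x : G} (hx1 : x ≠ 1) (hxo : ¬ p ∣ orderOf x)
    (hxC : x ∈ centralizer ((P : Subgroup G) : Set G)) :
    ∃ (t : G) (A : Subgroup G) (S : Sylow 2 G), p = 3 ∧ orderOf t = 2 ∧ t ∈ A ∧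
      t ∈ centralizer ((P : Subgroup G) : Set G) ∧ (S : Subgroup G) = A ∧ Nat.card A = 4 ∧
      centralizer (A : Set G) = A ∧
      (∀ a ∈ A, a ^ 2 = 1) ∧ (∀ a ∈ A, a ≠ 1 → IsConj t a) ∧
      (∀ n ∈ normalizer ((P : Subgroup G) : Set G), ∃ a ∈ A, ∃ u ∈ (P : Subgroup G), a * u = n) ∧
      A ≤ normalizer ((P : Subgroup G) : Set G) ∧
      (∀ a ∈ A, a ∈ centralizer ((P : Subgroup G) : Set G) → a = 1 ∨ a = t) ∧
      centralizer ({t} : Set G) = normalizer ((P : Subgroup G) : Set G) ∧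
      Nat.card A * Nat.card (P : Subgroup G) = Nat.card ↥(normalizer ((P : Subgroup G) : Set G)) := by
  classical
  obtain ⟨A, hAN, hAp, hsurj, hcardN, hAnc⟩ := H.exists_complement P
  set N := normalizer ((P : Subgroup G) : Set G) with hN
  set C := centralizer ((P : Subgroup G) : Set G) with hC
  have hCN : C ≤ N := centralizer_le_normalizer _
  -- an element of `A` centralizing `P`
  obtain ⟨a₀, ha₀, ha₀1, ha₀C⟩ : ∃ a ∈ A, a ≠ 1 ∧ a ∈ C := by
    obtain ⟨a, ha, u, hu, h⟩ := hsurj x (hCN hxC)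
    refine ⟨a, ha, ?_, ?_⟩
    · rintro rfl
      rw [one_mul] at h
      obtain ⟨k, hk⟩ := exists_pow_of_mem P.2 (h ▸ hu)
      obtain ⟨j, -, hj⟩ := (Nat.dvd_prime_pow hp.out).1 (orderOf_dvd_of_pow_eq_one hk)
      rcases Nat.eq_zero_or_pos j with hj0 | hj0
      · exact hx1 (orderOf_eq_one_iff.1 (by rw [hj, hj0, pow_zero]))
      · exact hxo (hj ▸ dvd_pow_self p hj0.ne')
    · have : a = x * u⁻¹ := by rw [← h, mul_inv_cancel_right]
      rw [this]
      exact mul_mem hxC (inv_mem (mem_centralizer_iff.2 fun z hz => H.sylow_comm P hz hu))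
  have hAab : ∀ a ∈ A, ∀ b ∈ A, a * b = b * a := fun a ha b hb => H.commute_of_not_dvd hAp ha hb
  have hCx : ∀ w ∈ A, w ∈ C → w ≠ 1 → centralizer ({w} : Set G) = N := by
    intro w hwA hwC hw1
    have hP : (P : Subgroup G) ≤ centralizer ({w} : Set G) := fun z hz =>
      mem_centralizer_singleton_iff.2 (mem_centralizer_iff.1 hwC z hz)
    have hA : A ≤ centralizer ({w} : Set G) := fun a ha => mem_centralizer_singleton_iff.2 (hAab a ha w hwA)
    rcases H.sub _ (H.centralizer_ne_top hw1) P hP with h | h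
    · refine le_antisymm h fun n hn => ?_
      obtain ⟨a, ha, u, hu, rfl⟩ := hsurj n hn
      exact mul_mem (hA ha) (hP hu)
    · exact absurd (fun a ha => h a (hA ha) (hAN ha)) hAnc
  -- a prime order element
  obtain ⟨q, hq, hqd⟩ := Nat.exists_prime_and_dvd (fun e : orderOf a₀ = 1 => ha₀1 (orderOf_eq_one_iff.1 e))
  haveI : Fact q.Prime := ⟨hq⟩
  obtain ⟨m, hm⟩ := hqd
  set t := a₀ ^ m with ht
  have hmne : m ≠ 0 := fun e => (orderOf_pos a₀).ne' (by rw [hm, e, mul_zero])
  have htq : orderOf t = q := by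
    rw [ht, orderOf_pow' _ hmne, hm, Nat.gcd_mul_left_left, Nat.mul_div_cancel _ (Nat.pos_of_ne_zero hmne)]
  have htA : t ∈ A := pow_mem ha₀ m
  have htC : t ∈ C := pow_mem ha₀C m
  have ht1 : t ≠ 1 := fun e => hq.ne_one (by rw [← htq, e, orderOf_one])
  have hCt := hCx t htA htC ht1
  have hqp : q ≠ p := fun e => hAp (by
    rw [← e, ← htq, ← Subgroup.orderOf_mk t htA]; exact orderOf_dvd_natCard _)
  -- the Sylow `q`-subgroup
  obtain ⟨S₀⟩ : Nonempty (Sylow q A) := inferInstance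
  set S' := (S₀ : Subgroup A).map A.subtype with hS'
  have hS'A : S' ≤ A := map_subtype_le _
  have hS'card : Nat.card S' = Nat.card (S₀ : Subgroup A) :=
    (Nat.card_congr (equivMapOfInjective _ _ A.subtype_injective).toEquiv).symm
  haveI hAcomm : IsMulCommutative A := H.ab A hAp
  have htS' : t ∈ S' := by
    obtain ⟨R, hR⟩ := exists_sylow_conj_mem (G := A) S₀ (w := ⟨t, htA⟩)
      ⟨1, by rw [pow_one]; exact orderOf_dvd_iff_pow_eq_one.1 (by rw [Subgroup.orderOf_mk, htq])⟩
    obtain ⟨g, hg⟩ := MulAction.exists_smul_eq A R S₀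
    refine ⟨⟨t, htA⟩, ?_, rfl⟩
    rw [← hg]
    exact ⟨⟨t, htA⟩, hR, by simp [mul_comm' g (⟨t, htA⟩ : A)]⟩
  obtain ⟨S, hS⟩ := (S₀.2.map A.subtype).exists_le_sylow
  have htS : t ∈ (S : Subgroup G) := hS htS'
  have hSp : ¬ p ∣ Nat.card (S : Subgroup G) := by
    obtain ⟨k, hk⟩ := IsPGroup.iff_card.1 S.2
    rw [hk]
    exact fun h => hqp ((Nat.prime_dvd_prime_iff_eq hp.out hq).1 (hp.out.dvd_of_dvd_pow h)).symm
  have hSN : (S : Subgroup G) ≤ N := fun z hz => hCt ▸
    mem_centralizer_singleton_iff.2 (H.commute_of_not_dvd hSp hz htS)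
  have hSS' : S' = (S : Subgroup G) := by
    refine eq_of_le_of_card_ge hS ?_
    obtain ⟨k, hk⟩ := IsPGroup.iff_card.1 S.2
    have hd : q ^ k ∣ Nat.card A := by
      refine Nat.Coprime.dvd_of_dvd_mul_right ?_ (hk ▸ hcardN ▸ card_dvd_of_le hSN)
      obtain ⟨l, hl⟩ := IsPGroup.iff_card.1 P.2
      rw [hl]
      exact Nat.Coprime.pow _ _ ((Nat.coprime_primes hq hp.out).2 hqp)
    rw [hk, hS'card, Sylow.card_eq_multiplicity]
    exact Nat.pow_le_pow_right hq.pos ((hq.pow_dvd_iff_le_factorization Nat.card_pos.ne').1 hd)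
  have hSA : (S : Subgroup G) ≤ A := hSS' ▸ hS'A
  have hSdvd : q ∣ Nat.card G := htq ▸ orderOf_dvd_natCard t
  have hSne : (S : Subgroup G) ≠ ⊤ := fun e => hSp (by rw [e, Subgroup.card_top]; exact H.dvd_card)
  obtain ⟨y, hyp, hyS, hyC⟩ := H.burnside hqp S (H.no_sylow_complement S hSdvd hSne)
  have hCSA : A ≤ centralizer ((S : Subgroup G) : Set G) := fun a ha =>
    mem_centralizer_iff.2 fun z hz => hAab z (hSA hz) a ha
  have hPS : (P : Subgroup G) ⊓ (S : Subgroup G) = ⊥ := by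
    rw [inf_comm]
    exact (disjoint_of_coprime_natCard (by
      obtain ⟨k, hk⟩ := IsPGroup.iff_card.1 S.2
      obtain ⟨l, hl⟩ := IsPGroup.iff_card.1 P.2
      rw [hk, hl]
      exact Nat.Coprime.pow _ _ ((Nat.coprime_primes hq hp.out).2 hqp))).eq_bot
  have hyN : y ∉ N := by
    intro hyN
    apply hyC
    have hyP := mem_sylow_of_normalizer P hyN hyp
    rw [mem_centralizer_iff]
    intro z hz
    have h1 : z * y * z⁻¹ * y⁻¹ ∈ (P : Subgroup G) ⊓ (S : Subgroup G) := by
      refine mem_inf.2 ⟨mul_mem ((mem_normalizer_iff.1 (hSN hz) y).1 hyP) (inv_mem hyP), ?_⟩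
      have : y * z⁻¹ * y⁻¹ ∈ (S : Subgroup G) := (mem_normalizer_iff.1 hyS _).1 (inv_mem hz)
      rw [show z * y * z⁻¹ * y⁻¹ = z * (y * z⁻¹ * y⁻¹) by group]
      exact mul_mem hz this
    rw [hPS, Subgroup.mem_bot, mul_inv_eq_one, mul_inv_eq_iff_eq_mul] at h1
    exact h1
  have hCS : centralizer ((S : Subgroup G) : Set G) = A := by
    refine le_antisymm (fun n hn => ?_) hCSA
    have hnN : n ∈ N := hCt ▸ mem_centralizer_singleton_iff.2 ((mem_centralizer_iff.1 hn t htS).symm)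
    obtain ⟨a, ha, u, hu, rfl⟩ := hsurj n hnN
    suffices u = 1 by rw [this, mul_one]; exact ha
    by_contra hu1
    apply hyN
    have huC : u ∈ centralizer ((S : Subgroup G) : Set G) := by
      have := mul_mem (inv_mem (hCSA ha)) hn
      rwa [inv_mul_cancel_left] at this
    have h1 : y * u * y⁻¹ ∈ centralizer ((S : Subgroup G) : Set G) := by
      rw [mem_centralizer_iff] at huC ⊢
      intro z hz
      have hz' : y⁻¹ * z * y ∈ (S : Subgroup G) := by
        have := (mem_normalizer_iff.1 (inv_mem hyS) z).1 hz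
        rwa [inv_inv] at this
      calc z * (y * u * y⁻¹) = y * ((y⁻¹ * z * y) * u) * y⁻¹ := by group
        _ = y * (u * (y⁻¹ * z * y)) * y⁻¹ := by rw [huC _ hz']
        _ = y * u * y⁻¹ * z := by group
    have h2 : y * u * y⁻¹ ∈ N := hCt ▸ mem_centralizer_singleton_iff.2 ((mem_centralizer_iff.1 h1 t htS).symm)
    obtain ⟨k, hk⟩ := exists_pow_of_mem P.2 hu
    exact H.mem_normalizer_of_conj_mem P hu hu1 (mem_sylow_of_normalizer P h2 ⟨k, by rw [conj_pow, hk]; group⟩)
  have hyA : ∀ k : ℤ, ∀ a ∈ A, y ^ k * a * (y ^ k)⁻¹ ∈ A := by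
    intro k a ha
    rw [← hCS, mem_centralizer_iff] at ha ⊢
    intro z hz
    have hz' : (y ^ k)⁻¹ * z * y ^ k ∈ (S : Subgroup G) := by
      have := (mem_normalizer_iff.1 (inv_mem (zpow_mem hyS k)) z).1 hz
      rwa [inv_inv] at this
    calc z * (y ^ k * a * (y ^ k)⁻¹) = y ^ k * (((y ^ k)⁻¹ * z * y ^ k) * a) * (y ^ k)⁻¹ := by group
      _ = y ^ k * (a * ((y ^ k)⁻¹ * z * y ^ k)) * (y ^ k)⁻¹ := by rw [ha _ hz']
      _ = y ^ k * a * (y ^ k)⁻¹ * z := by group
  -- conjugates of `N` differ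
  have hmove : ∀ g : G, g ∉ N → ∀ w ∈ A, w ∈ C → g * w * g⁻¹ ∈ A → g * w * g⁻¹ ∈ C → w = 1 := by
    intro g hg w hwA hwC hgA hgC
    by_contra hw1
    apply hg
    obtain ⟨z, hz, hz1⟩ := (P : Subgroup G).bot_or_exists_ne_one.resolve_left (H.sylow_ne_bot P)
    have hc1 : g * z * g⁻¹ ∈ centralizer ({g * w * g⁻¹} : Set G) :=
      mem_centralizer_singleton_iff.2 (by
        have := mem_centralizer_iff.1 hwC z hz
        calc g * z * g⁻¹ * (g * w * g⁻¹) = g * (z * w) * g⁻¹ := by group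
          _ = g * (w * z) * g⁻¹ := by rw [this]
          _ = g * w * g⁻¹ * (g * z * g⁻¹) := by group)
    rw [hCx _ hgA hgC fun e => hw1 (conj_eq_one_iff.1 e)] at hc1
    obtain ⟨k, hk⟩ := exists_pow_of_mem P.2 hz
    exact H.mem_normalizer_of_conj_mem P hz hz1 (mem_sylow_of_normalizer P hc1 ⟨k, by rw [conj_pow, hk]; group⟩)
  -- the map to the automorphism group of the subgroup of order `p`
  haveI := H.isCyclic_sylow P
  obtain ⟨⟨z, hzP⟩, hzo⟩ := exists_prime_orderOf_dvd_card' (G := (P : Subgroup G)) p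
    ((P.2.card_eq_or_dvd).resolve_left fun e => H.sylow_ne_bot P (Subgroup.card_eq_one.1 e))
  rw [Subgroup.orderOf_mk] at hzo
  have hz1 : z ≠ 1 := fun e => hp.out.ne_one (by rw [← hzo, e, orderOf_one])
  set Z := zpowers z with hZ
  have hZcard : Nat.card Z = p := by rw [Nat.card_zpowers, hzo]
  have hAZ : A ≤ normalizer (Z : Set G) := by
    intro a ha
    have h1 : Z.map (MulAut.conj a).toMonoidHom = Z := cyc_eq (Q := (P : Subgroup G))
      (by rintro _ ⟨w, hw, rfl⟩; exact (mem_normalizer_iff.1 (hAN ha) w).1 (zpowers_le.2 hzP hw))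
      (zpowers_le.2 hzP) (Nat.card_congr (equivMapOfInjective _ _ (MulAut.conj a).injective).toEquiv).symm
    rw [mem_normalizer_iff]
    intro w
    constructor
    · intro hw; exact h1 ▸ ⟨w, hw, rfl⟩
    · intro hw
      rw [← h1] at hw
      obtain ⟨v, hv, hvw⟩ := hw
      exact (MulAut.conj a).injective hvw ▸ hv
  obtain ⟨hMc, hMcard⟩ := mulAut_cyclic (p := p) Z hZcard
  haveI := hMc
  set ψ : A →* MulAut Z := (normalizerMonoidHom Z).comp (Subgroup.inclusion hAZ) with hψ
  have hψker : ∀ a : A, ψ a = 1 → (a : G) ∈ C := by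
    intro a ha
    have h1 : Subgroup.inclusion hAZ a ∈ (normalizerMonoidHom Z).ker := ha
    rw [normalizerMonoidHom_ker, mem_subgroupOf] at h1
    exact H.cent_of_fix' P (hAN a.2) hzP hz1 ((mem_centralizer_iff.1 h1 z (mem_zpowers z)).symm)
  let σ : A →* A := MonoidHom.mk' (fun a => ⟨y ^ (-1 : ℤ) * (a : G) * (y ^ (-1 : ℤ))⁻¹, hyA _ a a.2⟩)
    fun a b => Subtype.ext (show y ^ (-1 : ℤ) * ((a : G) * b) * (y ^ (-1 : ℤ))⁻¹ =
      y ^ (-1 : ℤ) * (a : G) * (y ^ (-1 : ℤ))⁻¹ * (y ^ (-1 : ℤ) * (b : G) * (y ^ (-1 : ℤ))⁻¹) by group)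
  set Φ : A →* MulAut Z × MulAut Z := ψ.prod (ψ.comp σ) with hΦ
  have hΦinj : Function.Injective Φ := by
    rw [injective_iff_map_eq_one]
    intro a ha
    have h1 : (a : G) ∈ C := hψker a (congrArg Prod.fst ha)
    have h2 : ((σ a : A) : G) ∈ C := hψker _ (congrArg Prod.snd ha)
    exact Subtype.ext (hmove _ (fun e => hyN (by simpa using inv_mem e)) (a : G) a.2 h1 (σ a).2 h2)
  -- the lines
  have hxi : ∀ i : ℕ, y ^ i * t * (y ^ i)⁻¹ ∈ A := fun i => by
    have := hyA (i : ℤ) t htA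
    rwa [zpow_natCast] at this
  obtain ⟨k, hk⟩ := hyp
  have hnotN : ∀ d : ℕ, 0 < d → d < p → y ^ d ∉ N := fun d hd hd' h => hyN
    (mem_of_pow_coprime N (a := d) (b := p ^ k)
      (Nat.Coprime.pow_right k ((hp.out.coprime_iff_not_dvd.2 fun h' => absurd (Nat.le_of_dvd hd h') (by omega)).symm))
      h (by rw [hk]; exact one_mem N))
  have hdist : ∀ i j : ℕ, i < j → j < p → ∀ l : ℕ, y ^ j * t * (y ^ j)⁻¹ ≠ (y ^ i * t * (y ^ i)⁻¹) ^ l := by
    intro i j hij hj l e
    rw [conj_pow] at e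
    have e' : y ^ (j - i) * t * (y ^ (j - i))⁻¹ = t ^ l := by
      have h1 : y ^ j = y ^ i * y ^ (j - i) := by rw [← pow_add, Nat.add_sub_cancel' hij.le]
      rw [h1, mul_inv_rev] at e
      have h2 : y ^ i * (y ^ (j - i) * t * (y ^ (j - i))⁻¹) * (y ^ i)⁻¹ = y ^ i * t ^ l * (y ^ i)⁻¹ := by
        rw [← e]; group
      exact mul_left_cancel (mul_right_cancel h2)
    exact ht1 (hmove _ (hnotN _ (by omega) (by omega)) t htA htC (e' ▸ pow_mem htA l) (e' ▸ pow_mem htC l))
  let Ω := {a : A // a ^ q = 1 ∧ a ≠ 1}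
  let f : Fin p × Fin (q - 1) → Ω := fun ik => ⟨⟨(y ^ ik.1.val * t * (y ^ ik.1.val)⁻¹) ^ (ik.2.val + 1), pow_mem (hxi _) _⟩,
    Subtype.ext (by
      show ((y ^ ik.1.val * t * (y ^ ik.1.val)⁻¹) ^ (ik.2.val + 1)) ^ q = 1
      rw [← pow_mul, conj_pow, mul_comm, pow_mul, orderOf_dvd_iff_pow_eq_one.1 htq.dvd, one_pow]; group),
    fun e => by
      have e' : (y ^ ik.1.val * t * (y ^ ik.1.val)⁻¹) ^ (ik.2.val + 1) = 1 := congrArg Subtype.val e
      have := Nat.le_of_dvd (by omega) (orderOf_dvd_of_pow_eq_one e')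
      rw [Involution.orderOf_conj, htq] at this
      have := ik.2.isLt
      omega⟩
  have hf : Function.Injective f := by
    rintro ⟨i, k⟩ ⟨j, l⟩ e
    have e' : (y ^ i.val * t * (y ^ i.val)⁻¹) ^ (k.val + 1) = (y ^ j.val * t * (y ^ j.val)⁻¹) ^ (l.val + 1) :=
      congrArg (fun w : Ω => ((w.1 : A) : G)) e
    have hgen : ∀ (i j : ℕ) (k l : ℕ), i < j → j < p → k + 1 < q →
        (y ^ j * t * (y ^ j)⁻¹) ^ (k + 1) ≠ (y ^ i * t * (y ^ i)⁻¹) ^ l := by
      intro i j k l hij hj hk e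
      obtain ⟨r, hr⟩ := exists_pow_eq_self_of_coprime (x := y ^ j * t * (y ^ j)⁻¹) (n := k + 1) (by
        rw [Involution.orderOf_conj, htq]
        exact (Nat.coprime_of_lt_prime (by omega) hk hq).symm)
      rw [e, ← pow_mul] at hr
      exact hdist i j hij hj _ hr.symm
    rcases lt_trichotomy i.val j.val with h | h | h
    · exact absurd e'.symm (hgen i.val j.val l.val (k.val + 1) h j.isLt (by have := l.isLt; omega))
    · obtain rfl : i = j := Fin.ext h
      have := pow_inj_mod.1 e'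
      rw [Involution.orderOf_conj, htq, Nat.mod_eq_of_lt (by have := k.isLt; omega),
        Nat.mod_eq_of_lt (by have := l.isLt; omega)] at this
      exact Prod.ext rfl (Fin.ext (show k.val = l.val by omega))
    · exact absurd e' (hgen j.val i.val k.val (l.val + 1) h i.isLt (by have := k.isLt; omega))
  have hΩ : Nat.card Ω + 1 ≤ q * q := by
    have hc := card_le_sq (M := MulAut Z) hq.pos
    let g : Option Ω → {m : MulAut Z // m ^ q = 1} × {m : MulAut Z // m ^ q = 1} := fun o =>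
      match o with
      | none => (⟨1, one_pow q⟩, ⟨1, one_pow q⟩)
      | some a => (⟨(Φ a.1).1, by rw [← Prod.pow_fst, ← map_pow, a.2.1, map_one]; rfl⟩,
          ⟨(Φ a.1).2, by rw [← Prod.pow_snd, ← map_pow, a.2.1, map_one]; rfl⟩)
    have hg : Function.Injective g := by
      have key : ∀ a : Ω, g none ≠ g (some a) := fun a e => a.2.2 (hΦinj (by
        rw [map_one]
        exact (Prod.ext (congrArg (fun w => (w.1 : MulAut Z)) e) (congrArg (fun w => (w.2 : MulAut Z)) e)).symm))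
      rintro (_ | a) (_ | b) e
      · rfl
      · exact absurd e (key b)
      · exact absurd e.symm (key a)
      · exact congrArg some (Subtype.ext (hΦinj (Prod.ext (congrArg (fun w => (w.1 : MulAut Z)) e)
          (congrArg (fun w => (w.2 : MulAut Z)) e))))
    have := Nat.card_le_card_of_injective g hg
    rw [Finite.card_option, Nat.card_prod] at this
    exact this.trans (Nat.mul_le_mul hc hc)
  have hbound : p * (q - 1) + 1 ≤ q * q := by
    have := Nat.card_le_card_of_injective f hf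
    rw [Nat.card_prod, Nat.card_fin, Nat.card_fin] at this
    omega
  -- `q ∣ p - 1`
  have hqp1 : q ∣ p - 1 := by
    have hyt : y ^ (1 : ℕ) * t * (y ^ (1 : ℕ))⁻¹ ∉ C := fun h =>
      ht1 (hmove _ (hnotN 1 one_pos hp.out.one_lt) t htA htC (hxi 1) h)
    have hne : ψ ⟨_, hxi 1⟩ ≠ 1 := fun e => hyt (hψker _ e)
    have ho : orderOf (ψ ⟨_, hxi 1⟩) = q := by
      refine orderOf_eq_prime ?_ hne
      rw [← map_pow, show (⟨_, hxi 1⟩ : A) ^ q = 1 from Subtype.ext (by
        show (y ^ 1 * t * (y ^ 1)⁻¹) ^ q = 1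
        rw [conj_pow, ← htq, pow_orderOf_eq_one]; group), map_one]
    rw [← hMcard, ← ho]
    exact orderOf_dvd_natCard _
  have hp1 : 2 ≤ p := hp.out.two_le
  have hq1 : 2 ≤ q := hq.two_le
  have hqlt : q ≤ p - 1 := Nat.le_of_dvd (by omega) hqp1
  have hple : p ≤ q + 1 := by
    by_contra hlt
    have h1 : (q + 2) * (q - 1) ≤ p * (q - 1) := Nat.mul_le_mul_right _ (by omega)
    obtain ⟨r, rfl⟩ : ∃ r, q = r + 2 := ⟨q - 2, by omega⟩
    simp only [show r + 2 - 1 = r + 1 by omega] at h1 hbound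
    nlinarith
  have hq2 : q = 2 := by
    rcases hq.eq_two_or_odd' with h | h
    · exact h
    · exfalso
      have : Even p := by rw [show p = q + 1 by omega]; exact h.add_one
      exact H.hp2 ((Nat.prime_dvd_prime_iff_eq Nat.prime_two hp.out).1 this.two_dvd).symm
  subst hq2
  have hp3 : p = 3 := by omega
  subst hp3
  have hA4 : Nat.card A ≤ 4 := by
    have := Nat.card_le_card_of_injective Φ hΦinj
    rw [Nat.card_prod, hMcard] at this
    exact this
  have hΩ3 : 3 ≤ Nat.card Ω := by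
    have := Nat.card_le_card_of_injective f hf
    rwa [Nat.card_prod, Nat.card_fin, Nat.card_fin] at this
  have hAΩ : Nat.card Ω + 1 ≤ Nat.card A := by
    have hg : Function.Injective (fun o : Option Ω => (o.map (fun a => a.1)).getD 1) := by
      rintro (_ | a) (_ | b) e
      · rfl
      · exact absurd e.symm b.2.2
      · exact absurd e a.2.2
      · exact congrArg some (Subtype.ext e)
    have := Nat.card_le_card_of_injective _ hg
    rwa [Finite.card_option] at this
  have hAcard : Nat.card A = 4 := by omega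
  have hbij : Function.Bijective f := hf.bijective_of_nat_card_le (by
    rw [Nat.card_prod, Nat.card_fin, Nat.card_fin]; omega)
  have hall : ∀ a : A, a ≠ 1 → a ^ 2 = 1 := by
    intro a ha
    by_contra ha2
    let g : Option (Option Ω) → A := fun o =>
      match o with
      | none => a
      | some o => (o.map (fun w => w.1)).getD 1
    have hg : Function.Injective g := by
      rintro (_ | (_ | u)) (_ | (_ | v)) e
      · rfl
      · exact absurd e ha
      · exact absurd (show a ^ 2 = 1 by rw [show a = v.1 from e]; exact v.2.1) ha2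
      · exact absurd e.symm ha
      · rfl
      · exact absurd e.symm v.2.2
      · exact absurd (show a ^ 2 = 1 by rw [show a = u.1 from e.symm]; exact u.2.1) ha2
      · exact absurd e u.2.2
      · exact congrArg (fun w => some (some w)) (Subtype.ext e)
    have := Nat.card_le_card_of_injective g hg
    rw [Finite.card_option, Finite.card_option] at this
    omega
  have hclass : ∀ a ∈ A, a ≠ 1 → IsConj t a := by
    intro a ha ha1
    have ha' : (⟨a, ha⟩ : A) ≠ 1 := fun e => ha1 (congrArg Subtype.val e)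
    obtain ⟨⟨i, k⟩, hik⟩ := hbij.2 ⟨⟨a, ha⟩, hall _ ha', ha'⟩
    have : (y ^ i.val * t * (y ^ i.val)⁻¹) ^ (k.val + 1) = a := congrArg (fun w : Ω => ((w.1 : A) : G)) hik
    rw [show k.val = 0 by have := k.isLt; omega, zero_add, pow_one] at this
    exact isConj_iff.2 ⟨_, this⟩
  have hASyl : (S : Subgroup G) = A := by
    refine eq_of_le_of_card_ge hSA ?_
    obtain ⟨l, hl⟩ := IsPGroup.iff_card.1 S₀.2
    rw [← hSS', hS'card, Sylow.card_eq_multiplicity, hAcard, show (4 : ℕ) = 2 ^ 2 by norm_num,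
      Nat.Prime.factorization_pow Nat.prime_two, Finsupp.single_eq_same]
  refine ⟨t, A, S, rfl, htq, htA, htC, hASyl, hAcard, by rw [← hASyl, hCS, hASyl], ?_, hclass, hsurj, hAN, ?_,
    hCt, hcardN⟩
  · intro a ha
    by_cases ha1 : a = 1
    · rw [ha1, one_pow]
    · exact congrArg Subtype.val (hall ⟨a, ha⟩ fun e => ha1 (congrArg Subtype.val e))
  · intro a ha haC
    by_contra hcon
    push Not at hcon
    -- the kernel of `ψ` has at most two elements
    have hinj : Function.Injective (fun w : {w : A // (w : G) ∈ C} => ψ (σ w.1)) := by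
      intro u v e
      have h1 : ψ (σ (u.1 * v.1⁻¹)) = 1 := by
        have e' : ψ (σ u.1) = ψ (σ v.1) := e
        rw [map_mul, map_mul, e', map_inv, map_inv, mul_inv_cancel]
      refine Subtype.ext (mul_inv_eq_one.1 (Subtype.ext ?_))
      exact hmove _ (fun e => hyN (by simpa using inv_mem e)) _ (u.1 * v.1⁻¹).2 (mul_mem u.2 (inv_mem v.2))
        (σ (u.1 * v.1⁻¹)).2 (hψker _ h1)
    have hle := Nat.card_le_card_of_injective _ hinj
    rw [hMcard] at hle
    let g : Fin 3 → {w : A // (w : G) ∈ C} := ![⟨1, one_mem C⟩, ⟨⟨t, htA⟩, htC⟩, ⟨⟨a, ha⟩, haC⟩]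
    have hg : Function.Injective g := by
      intro i j e
      have e' : ((g i).1 : G) = (g j).1 := congrArg (fun w : {w : A // (w : G) ∈ C} => (w.1 : G)) e
      fin_cases i <;> fin_cases j <;> simp [g] at e' ⊢
      all_goals first
        | exact ht1 e' | exact ht1 e'.symm | exact hcon.1 e' | exact hcon.1 e'.symm
        | exact hcon.2 e' | exact hcon.2 e'.symm
    have := Nat.card_le_card_of_injective g hg
    rw [Nat.card_fin] at this
    omega

end Hyp

end Cfsg.Agent.Lib.CyclicAb
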