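import Cfsg.Agent.Lib.CyclicAb.Basic

/-!
The minimal configuration: a simple group with cyclic Sylow `p`-subgroups and abelian `p'`-subgroups.
-/

set_option autoImplicit false

namespace Cfsg.Agent.Lib.CyclicAb

open Subgroup

/-- The hypotheses on a minimal counterexample. -/
structure Hyp (p : ℕ) (G : Type*) [Group G] : Prop where
  hp2 : p ≠ 2
  simple : IsSimpleGroup G
  ncomm : ¬ ∀ a b : G, a * b = b * a
  cyc : ∀ Q : Subgroup G, IsPGroup p Q → IsCyclic Q
  ab : ∀ H : Subgroup G, ¬ p ∣ Nat.card H → IsMulCommutative H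
  sub : ∀ M : Subgroup G, M ≠ ⊤ → ∀ Q : Sylow p G, (Q : Subgroup G) ≤ M →
    M ≤ normalizer ((Q : Subgroup G) : Set G) ∨
      ∀ a ∈ M, a ∈ normalizer ((Q : Subgroup G) : Set G) → a ∈ centralizer ((Q : Subgroup G) : Set G)
  nc : ∀ Q : Sylow p G, ¬ normalizer ((Q : Subgroup G) : Set G) ≤ centralizer ((Q : Subgroup G) : Set G)

namespace Hyp

variable {p : ℕ} [hp : Fact p.Prime] {G : Type*} [Group G] [Finite G] (H : Hyp p G)
include H

omit hp [Finite G] in
theorem commute_of_not_dvd {K : Subgroup G} (hK : ¬ p ∣ Nat.card K) {a b : G} (ha : a ∈ K) (hb : b ∈ K) :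
    a * b = b * a := by
  haveI := H.ab K hK
  exact congrArg Subtype.val (mul_comm' (⟨a, ha⟩ : K) ⟨b, hb⟩)

omit hp [Finite G] in
theorem normal_eq_top {K : Subgroup G} (hK : K.Normal) (h : K ≠ ⊥) : K = ⊤ :=
  haveI := H.simple
  (IsSimpleGroup.eq_bot_or_eq_top_of_normal K hK).resolve_left h

omit hp [Finite G] in
theorem zpowers_ne_top (x : G) : zpowers x ≠ ⊤ := fun e => H.ncomm fun a b => by
  obtain ⟨i, rfl⟩ := mem_zpowers_iff.1 (e ▸ mem_top a : a ∈ zpowers x)
  obtain ⟨j, rfl⟩ := mem_zpowers_iff.1 (e ▸ mem_top b : b ∈ zpowers x)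
  exact (Commute.zpow_zpow (Commute.refl x) i j).eq

omit hp [Finite G] in
theorem centralizer_ne_top {x : G} (hx : x ≠ 1) : centralizer ({x} : Set G) ≠ ⊤ := fun e => by
  have hn : (zpowers x).Normal := ⟨fun n hn g => by
    obtain ⟨i, rfl⟩ := mem_zpowers_iff.1 hn
    have hg : g * x = x * g := mem_centralizer_singleton_iff.1 (e ▸ mem_top g)
    rw [show g * x ^ i * g⁻¹ = x ^ i from mul_inv_eq_iff_eq_mul.2 (Commute.zpow_right hg i)]
    exact hn⟩
  exact H.zpowers_ne_top x (H.normal_eq_top hn (fun h => hx (by simpa using h)))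

theorem isCyclic_sylow (Q : Sylow p G) : IsCyclic (Q : Subgroup G) := H.cyc _ Q.2

theorem sylow_comm (Q : Sylow p G) {a b : G} (ha : a ∈ (Q : Subgroup G)) (hb : b ∈ (Q : Subgroup G)) :
    a * b = b * a := by
  haveI := H.isCyclic_sylow Q
  exact congrArg Subtype.val (mul_comm' (⟨a, ha⟩ : (Q : Subgroup G)) ⟨b, hb⟩)

theorem sylow_ne_bot (Q : Sylow p G) : (Q : Subgroup G) ≠ ⊥ := fun e => H.nc Q fun g _ => by
  rw [mem_centralizer_iff]
  intro z hz
  rw [SetLike.mem_coe, e, Subgroup.mem_bot] at hz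
  simp [hz]

theorem dvd_card : p ∣ Nat.card G := by
  obtain ⟨Q⟩ : Nonempty (Sylow p G) := inferInstance
  rcases Q.2.card_eq_or_dvd with h | h
  · exact absurd (Subgroup.card_eq_one.1 h) (H.sylow_ne_bot Q)
  · exact h.trans (card_subgroup_dvd_card _)

theorem cent_of_fix' (Q : Sylow p G) {g : G} (hg : g ∈ normalizer ((Q : Subgroup G) : Set G)) {x : G}
    (hx : x ∈ (Q : Subgroup G)) (hx1 : x ≠ 1) (hgx : g * x = x * g) :
    g ∈ centralizer ((Q : Subgroup G) : Set G) := by
  haveI := H.isCyclic_sylow Q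
  exact cent_of_fix Q hg hx hx1 hgx

theorem normalizer_zpowers_le (Q : Sylow p G) {x : G} (hx : x ∈ (Q : Subgroup G)) (hx1 : x ≠ 1) :
    normalizer ((zpowers x : Subgroup G) : Set G) ≤ normalizer ((Q : Subgroup G) : Set G) := by
  haveI := H.isCyclic_sylow Q
  have hle : normalizer ((Q : Subgroup G) : Set G) ≤ normalizer ((zpowers x : Subgroup G) : Set G) := by
    intro n hn
    have h1 : ((zpowers x).map (MulAut.conj n).toMonoidHom) = zpowers x := cyc_eq (Q := (Q : Subgroup G))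
      (by
        rintro _ ⟨z, hz, rfl⟩
        exact (mem_normalizer_iff.1 hn z).1 (zpowers_le.2 hx hz))
      (zpowers_le.2 hx) (Nat.card_congr (equivMapOfInjective _ _ (MulAut.conj n).injective).toEquiv).symm
    rw [mem_normalizer_iff]
    intro z
    constructor
    · intro hz
      exact h1 ▸ ⟨z, hz, rfl⟩
    · intro hz
      rw [← h1] at hz
      obtain ⟨w, hw, hwz⟩ := hz
      exact (MulAut.conj n).injective hwz ▸ hw
  have hne : normalizer ((zpowers x : Subgroup G) : Set G) ≠ ⊤ := fun e =>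
    H.zpowers_ne_top x (H.normal_eq_top (normalizer_eq_top_iff.1 e) (fun h => hx1 (by simpa using h)))
  rcases H.sub _ hne Q (le_normalizer.trans hle) with h | h
  · exact h
  · exact absurd (fun n hn => h n (hle hn) hn) (H.nc Q)

theorem centralizer_le (Q : Sylow p G) {x : G} (hx : x ∈ (Q : Subgroup G)) (hx1 : x ≠ 1) :
    centralizer ({x} : Set G) ≤ centralizer ((Q : Subgroup G) : Set G) := by
  intro g hg
  have hgx := mem_centralizer_singleton_iff.1 hg
  refine H.cent_of_fix' Q (H.normalizer_zpowers_le Q hx hx1 ?_) hx hx1 hgx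
  rw [mem_normalizer_iff]
  intro z
  constructor
  · intro hz
    obtain ⟨i, rfl⟩ := mem_zpowers_iff.1 hz
    rwa [mul_inv_eq_iff_eq_mul.2 (Commute.zpow_right hgx i).eq]
  · intro hz
    obtain ⟨i, hi⟩ := mem_zpowers_iff.1 hz
    have : z = g⁻¹ * x ^ i * g := by rw [hi]; group
    rw [this, (show Commute g⁻¹ (x ^ i) from (Commute.zpow_right hgx i).inv_left).eq, inv_mul_cancel_right]
    exact zpow_mem (mem_zpowers x) i

/-- Two Sylow `p`-subgroups sharing a non-trivial element are equal. -/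
theorem unique (Q R : Sylow p G) {w : G} (hQ : w ∈ (Q : Subgroup G)) (hR : w ∈ (R : Subgroup G))
    (hw : w ≠ 1) : Q = R := by
  have h : (R : Subgroup G) ≤ (Q : Subgroup G) := fun z hz =>
    mem_sylow_of_normalizer Q (centralizer_le_normalizer _ (H.centralizer_le Q hQ hw
      (mem_centralizer_singleton_iff.2 (H.sylow_comm R hz hR)))) (exists_pow_of_mem R.2 hz)
  exact Sylow.ext (R.3 Q.2 h)

theorem mem_normalizer_of_conj_mem (Q : Sylow p G) {y x : G} (hx : x ∈ (Q : Subgroup G)) (hx1 : x ≠ 1)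
    (h : y * x * y⁻¹ ∈ (Q : Subgroup G)) : y ∈ normalizer ((Q : Subgroup G) : Set G) := by
  refine Sylow.smul_eq_iff_mem_normalizer.1 (H.unique (y • Q) Q (w := y * x * y⁻¹) ?_ h fun e => hx1 (conj_eq_one_iff.1 e))
  exact ⟨x, hx, rfl⟩

theorem burnside {q : ℕ} [Fact q.Prime] (hqp : q ≠ p) (S : Sylow q G)
    (hcent : ¬ normalizer ((S : Subgroup G) : Set G) ≤ centralizer ((S : Subgroup G) : Set G)) :
    ∃ y : G, (∃ k, y ^ p ^ k = 1) ∧ y ∈ normalizer ((S : Subgroup G) : Set G) ∧
      y ∉ centralizer ((S : Subgroup G) : Set G) := by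
  by_contra hcon
  push Not at hcon
  refine hcent fun g hg => mem_of_parts hp.out _ _ ?_ ?_ hg
  · intro a ha hao
    have hS : ¬ p ∣ Nat.card (S : Subgroup G) := by
      obtain ⟨k, hk⟩ := IsPGroup.iff_card.1 S.2
      rw [hk]
      exact fun h => hqp ((Nat.prime_dvd_prime_iff_eq hp.out Fact.out).1 (hp.out.dvd_of_dvd_pow h)).symm
    have hK := not_dvd_sup (zpowers_le.2 ha) (not_dvd_zpowers hao) hS
    rw [mem_centralizer_iff]
    intro z hz
    exact H.commute_of_not_dvd hK (mem_sup_right hz) (mem_sup_left (mem_zpowers a))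
  · exact fun a ha hak => hcon a hak ha

theorem no_sylow_complement {q : ℕ} [Fact q.Prime] (S : Sylow q G) (hS : q ∣ Nat.card G)
    (hne : (S : Subgroup G) ≠ ⊤) :
    ¬ normalizer ((S : Subgroup G) : Set G) ≤ centralizer ((S : Subgroup G) : Set G) := by
  intro h
  have hc := MonoidHom.ker_transferSylow_isComplement' S h
  set K := (MonoidHom.transferSylow S h).ker
  by_cases hK : K = ⊥
  · rw [hK, Subgroup.isComplement'_bot_left] at hc
    exact hne hc
  · rw [H.normal_eq_top inferInstance hK, Subgroup.isComplement'_top_left] at hc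
    exact S.ne_bot_of_dvd_card hS hc

end Hyp

end Cfsg.Agent.Lib.CyclicAb
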